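import Cfsg.Agent.CosetEnum.Fi22U.Data

set_option autoImplicit false
set_option maxRecDepth 100000
set_option exponentiation.threshold 200000
set_option Elab.async false

/-! Lower bound for the group on 693 points (generated certificate). -/

namespace CfsgLib.CosetEnum.Fi22U

theorem comp9 : allR (compEntry 693 p3 p6 p9) 10 0 = true := by decide +kernel

theorem img_p9 {G : Type*} [Group G] (ψ : G →* Equiv.Perm (Fin 693)) (hψ : ∀ s, s < 9 → IsImg ψ (gT s)) : IsImg ψ p9 :=
  IsImg.comp (hψ 3 (show 3 < 9 by decide)) (hψ 6 (show 6 < 9 by decide)) (d := 10) (show 693 ≤ 2 ^ 10 by decide) comp9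

theorem comp10 : allR (compEntry 693 p1 p9 p10) 10 0 = true := by decide +kernel

theorem img_p10 {G : Type*} [Group G] (ψ : G →* Equiv.Perm (Fin 693)) (hψ : ∀ s, s < 9 → IsImg ψ (gT s)) : IsImg ψ p10 :=
  IsImg.comp (hψ 1 (show 1 < 9 by decide)) (img_p9 ψ hψ) (d := 10) (show 693 ≤ 2 ^ 10 by decide) comp10

theorem comp11 : allR (compEntry 693 p6 p7 p11) 10 0 = true := by decide +kernel

theorem img_p11 {G : Type*} [Group G] (ψ : G →* Equiv.Perm (Fin 693)) (hψ : ∀ s, s < 9 → IsImg ψ (gT s)) : IsImg ψ p11 :=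
  IsImg.comp (hψ 6 (show 6 < 9 by decide)) (hψ 7 (show 7 < 9 by decide)) (d := 10) (show 693 ≤ 2 ^ 10 by decide) comp11

theorem comp12 : allR (compEntry 693 p10 p11 p12) 10 0 = true := by decide +kernel

theorem img_p12 {G : Type*} [Group G] (ψ : G →* Equiv.Perm (Fin 693)) (hψ : ∀ s, s < 9 → IsImg ψ (gT s)) : IsImg ψ p12 :=
  IsImg.comp (img_p10 ψ hψ) (img_p11 ψ hψ) (d := 10) (show 693 ≤ 2 ^ 10 by decide) comp12

theorem comp13 : allR (compEntry 693 p5 p3 p13) 10 0 = true := by decide +kernel

theorem img_p13 {G : Type*} [Group G] (ψ : G →* Equiv.Perm (Fin 693)) (hψ : ∀ s, s < 9 → IsImg ψ (gT s)) : IsImg ψ p13 :=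
  IsImg.comp (hψ 5 (show 5 < 9 by decide)) (hψ 3 (show 3 < 9 by decide)) (d := 10) (show 693 ≤ 2 ^ 10 by decide) comp13

theorem comp14 : allR (compEntry 693 p12 p13 p14) 10 0 = true := by decide +kernel

theorem img_p14 {G : Type*} [Group G] (ψ : G →* Equiv.Perm (Fin 693)) (hψ : ∀ s, s < 9 → IsImg ψ (gT s)) : IsImg ψ p14 :=
  IsImg.comp (img_p12 ψ hψ) (img_p13 ψ hψ) (d := 10) (show 693 ≤ 2 ^ 10 by decide) comp14

theorem comp15 : allR (compEntry 693 p8 p1 p15) 10 0 = true := by decide +kernel

theorem img_p15 {G : Type*} [Group G] (ψ : G →* Equiv.Perm (Fin 693)) (hψ : ∀ s, s < 9 → IsImg ψ (gT s)) : IsImg ψ p15 :=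
  IsImg.comp (hψ 8 (show 8 < 9 by decide)) (hψ 1 (show 1 < 9 by decide)) (d := 10) (show 693 ≤ 2 ^ 10 by decide) comp15

theorem comp16 : allR (compEntry 693 p14 p15 p16) 10 0 = true := by decide +kernel

theorem img_p16 {G : Type*} [Group G] (ψ : G →* Equiv.Perm (Fin 693)) (hψ : ∀ s, s < 9 → IsImg ψ (gT s)) : IsImg ψ p16 :=
  IsImg.comp (img_p14 ψ hψ) (img_p15 ψ hψ) (d := 10) (show 693 ≤ 2 ^ 10 by decide) comp16

theorem comp17 : allR (compEntry 693 p1 p4 p17) 10 0 = true := by decide +kernel

theorem img_p17 {G : Type*} [Group G] (ψ : G →* Equiv.Perm (Fin 693)) (hψ : ∀ s, s < 9 → IsImg ψ (gT s)) : IsImg ψ p17 :=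
  IsImg.comp (hψ 1 (show 1 < 9 by decide)) (hψ 4 (show 4 < 9 by decide)) (d := 10) (show 693 ≤ 2 ^ 10 by decide) comp17

theorem comp18 : allR (compEntry 693 p16 p17 p18) 10 0 = true := by decide +kernel

theorem img_p18 {G : Type*} [Group G] (ψ : G →* Equiv.Perm (Fin 693)) (hψ : ∀ s, s < 9 → IsImg ψ (gT s)) : IsImg ψ p18 :=
  IsImg.comp (img_p16 ψ hψ) (img_p17 ψ hψ) (d := 10) (show 693 ≤ 2 ^ 10 by decide) comp18

theorem comp24 : allR (compEntry 693 p13 p15 p24) 10 0 = true := by decide +kernel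

theorem img_p24 {G : Type*} [Group G] (ψ : G →* Equiv.Perm (Fin 693)) (hψ : ∀ s, s < 9 → IsImg ψ (gT s)) : IsImg ψ p24 :=
  IsImg.comp (img_p13 ψ hψ) (img_p15 ψ hψ) (d := 10) (show 693 ≤ 2 ^ 10 by decide) comp24

theorem comp28 : allR (compEntry 693 p9 p5 p28) 10 0 = true := by decide +kernel

theorem img_p28 {G : Type*} [Group G] (ψ : G →* Equiv.Perm (Fin 693)) (hψ : ∀ s, s < 9 → IsImg ψ (gT s)) : IsImg ψ p28 :=
  IsImg.comp (img_p9 ψ hψ) (hψ 5 (show 5 < 9 by decide)) (d := 10) (show 693 ≤ 2 ^ 10 by decide) comp28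

theorem comp32 : allR (compEntry 693 p9 p15 p32) 10 0 = true := by decide +kernel

theorem img_p32 {G : Type*} [Group G] (ψ : G →* Equiv.Perm (Fin 693)) (hψ : ∀ s, s < 9 → IsImg ψ (gT s)) : IsImg ψ p32 :=
  IsImg.comp (img_p9 ψ hψ) (img_p15 ψ hψ) (d := 10) (show 693 ≤ 2 ^ 10 by decide) comp32

theorem comp34 : allR (compEntry 693 p28 p15 p34) 10 0 = true := by decide +kernel

theorem img_p34 {G : Type*} [Group G] (ψ : G →* Equiv.Perm (Fin 693)) (hψ : ∀ s, s < 9 → IsImg ψ (gT s)) : IsImg ψ p34 :=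
  IsImg.comp (img_p28 ψ hψ) (img_p15 ψ hψ) (d := 10) (show 693 ≤ 2 ^ 10 by decide) comp34

theorem comp36 : allR (compEntry 693 p9 p34 p36) 10 0 = true := by decide +kernel

theorem img_p36 {G : Type*} [Group G] (ψ : G →* Equiv.Perm (Fin 693)) (hψ : ∀ s, s < 9 → IsImg ψ (gT s)) : IsImg ψ p36 :=
  IsImg.comp (img_p9 ψ hψ) (img_p34 ψ hψ) (d := 10) (show 693 ≤ 2 ^ 10 by decide) comp36

theorem comp42 : allR (compEntry 693 p10 p9 p42) 10 0 = true := by decide +kernel

theorem img_p42 {G : Type*} [Group G] (ψ : G →* Equiv.Perm (Fin 693)) (hψ : ∀ s, s < 9 → IsImg ψ (gT s)) : IsImg ψ p42 :=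
  IsImg.comp (img_p10 ψ hψ) (img_p9 ψ hψ) (d := 10) (show 693 ≤ 2 ^ 10 by decide) comp42

theorem comp43 : allR (compEntry 693 p24 p9 p43) 10 0 = true := by decide +kernel

theorem img_p43 {G : Type*} [Group G] (ψ : G →* Equiv.Perm (Fin 693)) (hψ : ∀ s, s < 9 → IsImg ψ (gT s)) : IsImg ψ p43 :=
  IsImg.comp (img_p24 ψ hψ) (img_p9 ψ hψ) (d := 10) (show 693 ≤ 2 ^ 10 by decide) comp43

theorem comp45 : allR (compEntry 693 p11 p4 p45) 10 0 = true := by decide +kernel

theorem img_p45 {G : Type*} [Group G] (ψ : G →* Equiv.Perm (Fin 693)) (hψ : ∀ s, s < 9 → IsImg ψ (gT s)) : IsImg ψ p45 :=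
  IsImg.comp (img_p11 ψ hψ) (hψ 4 (show 4 < 9 by decide)) (d := 10) (show 693 ≤ 2 ^ 10 by decide) comp45

theorem comp46 : allR (compEntry 693 p18 p45 p46) 10 0 = true := by decide +kernel

theorem img_p46 {G : Type*} [Group G] (ψ : G →* Equiv.Perm (Fin 693)) (hψ : ∀ s, s < 9 → IsImg ψ (gT s)) : IsImg ψ p46 :=
  IsImg.comp (img_p18 ψ hψ) (img_p45 ψ hψ) (d := 10) (show 693 ≤ 2 ^ 10 by decide) comp46

theorem comp47 : allR (compEntry 693 p42 p15 p47) 10 0 = true := by decide +kernel

theorem img_p47 {G : Type*} [Group G] (ψ : G →* Equiv.Perm (Fin 693)) (hψ : ∀ s, s < 9 → IsImg ψ (gT s)) : IsImg ψ p47 :=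
  IsImg.comp (img_p42 ψ hψ) (img_p15 ψ hψ) (d := 10) (show 693 ≤ 2 ^ 10 by decide) comp47

theorem comp48 : allR (compEntry 693 p46 p47 p48) 10 0 = true := by decide +kernel

theorem img_p48 {G : Type*} [Group G] (ψ : G →* Equiv.Perm (Fin 693)) (hψ : ∀ s, s < 9 → IsImg ψ (gT s)) : IsImg ψ p48 :=
  IsImg.comp (img_p46 ψ hψ) (img_p47 ψ hψ) (d := 10) (show 693 ≤ 2 ^ 10 by decide) comp48

theorem comp49 : allR (compEntry 693 p48 p36 p49) 10 0 = true := by decide +kernel

theorem img_p49 {G : Type*} [Group G] (ψ : G →* Equiv.Perm (Fin 693)) (hψ : ∀ s, s < 9 → IsImg ψ (gT s)) : IsImg ψ p49 :=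
  IsImg.comp (img_p48 ψ hψ) (img_p36 ψ hψ) (d := 10) (show 693 ≤ 2 ^ 10 by decide) comp49

theorem comp50 : allR (compEntry 693 p32 p2 p50) 10 0 = true := by decide +kernel

theorem img_p50 {G : Type*} [Group G] (ψ : G →* Equiv.Perm (Fin 693)) (hψ : ∀ s, s < 9 → IsImg ψ (gT s)) : IsImg ψ p50 :=
  IsImg.comp (img_p32 ψ hψ) (hψ 2 (show 2 < 9 by decide)) (d := 10) (show 693 ≤ 2 ^ 10 by decide) comp50

theorem comp51 : allR (compEntry 693 p49 p50 p51) 10 0 = true := by decide +kernel

theorem img_p51 {G : Type*} [Group G] (ψ : G →* Equiv.Perm (Fin 693)) (hψ : ∀ s, s < 9 → IsImg ψ (gT s)) : IsImg ψ p51 :=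
  IsImg.comp (img_p49 ψ hψ) (img_p50 ψ hψ) (d := 10) (show 693 ≤ 2 ^ 10 by decide) comp51

theorem comp52 : allR (compEntry 693 p4 p15 p52) 10 0 = true := by decide +kernel

theorem img_p52 {G : Type*} [Group G] (ψ : G →* Equiv.Perm (Fin 693)) (hψ : ∀ s, s < 9 → IsImg ψ (gT s)) : IsImg ψ p52 :=
  IsImg.comp (hψ 4 (show 4 < 9 by decide)) (img_p15 ψ hψ) (d := 10) (show 693 ≤ 2 ^ 10 by decide) comp52

theorem comp53 : allR (compEntry 693 p51 p52 p53) 10 0 = true := by decide +kernel

theorem img_p53 {G : Type*} [Group G] (ψ : G →* Equiv.Perm (Fin 693)) (hψ : ∀ s, s < 9 → IsImg ψ (gT s)) : IsImg ψ p53 :=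
  IsImg.comp (img_p51 ψ hψ) (img_p52 ψ hψ) (d := 10) (show 693 ≤ 2 ^ 10 by decide) comp53

theorem comp54 : allR (compEntry 693 p9 p8 p54) 10 0 = true := by decide +kernel

theorem img_p54 {G : Type*} [Group G] (ψ : G →* Equiv.Perm (Fin 693)) (hψ : ∀ s, s < 9 → IsImg ψ (gT s)) : IsImg ψ p54 :=
  IsImg.comp (img_p9 ψ hψ) (hψ 8 (show 8 < 9 by decide)) (d := 10) (show 693 ≤ 2 ^ 10 by decide) comp54

theorem comp55 : allR (compEntry 693 p53 p54 p55) 10 0 = true := by decide +kernel

theorem img_p55 {G : Type*} [Group G] (ψ : G →* Equiv.Perm (Fin 693)) (hψ : ∀ s, s < 9 → IsImg ψ (gT s)) : IsImg ψ p55 :=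
  IsImg.comp (img_p53 ψ hψ) (img_p54 ψ hψ) (d := 10) (show 693 ≤ 2 ^ 10 by decide) comp55

theorem comp56 : allR (compEntry 693 p9 p4 p56) 10 0 = true := by decide +kernel

theorem img_p56 {G : Type*} [Group G] (ψ : G →* Equiv.Perm (Fin 693)) (hψ : ∀ s, s < 9 → IsImg ψ (gT s)) : IsImg ψ p56 :=
  IsImg.comp (img_p9 ψ hψ) (hψ 4 (show 4 < 9 by decide)) (d := 10) (show 693 ≤ 2 ^ 10 by decide) comp56

theorem comp57 : allR (compEntry 693 p55 p56 p57) 10 0 = true := by decide +kernel

theorem img_p57 {G : Type*} [Group G] (ψ : G →* Equiv.Perm (Fin 693)) (hψ : ∀ s, s < 9 → IsImg ψ (gT s)) : IsImg ψ p57 :=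
  IsImg.comp (img_p55 ψ hψ) (img_p56 ψ hψ) (d := 10) (show 693 ≤ 2 ^ 10 by decide) comp57

theorem comp58 : allR (compEntry 693 p43 p54 p58) 10 0 = true := by decide +kernel

theorem img_p58 {G : Type*} [Group G] (ψ : G →* Equiv.Perm (Fin 693)) (hψ : ∀ s, s < 9 → IsImg ψ (gT s)) : IsImg ψ p58 :=
  IsImg.comp (img_p43 ψ hψ) (img_p54 ψ hψ) (d := 10) (show 693 ≤ 2 ^ 10 by decide) comp58

theorem comp59 : allR (compEntry 693 p57 p58 p59) 10 0 = true := by decide +kernel

theorem img_p59 {G : Type*} [Group G] (ψ : G →* Equiv.Perm (Fin 693)) (hψ : ∀ s, s < 9 → IsImg ψ (gT s)) : IsImg ψ p59 :=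
  IsImg.comp (img_p57 ψ hψ) (img_p58 ψ hψ) (d := 10) (show 693 ≤ 2 ^ 10 by decide) comp59

theorem comp60 : allR (compEntry 693 p59 p3 p60) 10 0 = true := by decide +kernel

theorem img_p60 {G : Type*} [Group G] (ψ : G →* Equiv.Perm (Fin 693)) (hψ : ∀ s, s < 9 → IsImg ψ (gT s)) : IsImg ψ p60 :=
  IsImg.comp (img_p59 ψ hψ) (hψ 3 (show 3 < 9 by decide)) (d := 10) (show 693 ≤ 2 ^ 10 by decide) comp60

theorem comp61 : allR (compEntry 693 p60 p2 p61) 10 0 = true := by decide +kernel

theorem img_p61 {G : Type*} [Group G] (ψ : G →* Equiv.Perm (Fin 693)) (hψ : ∀ s, s < 9 → IsImg ψ (gT s)) : IsImg ψ p61 :=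
  IsImg.comp (img_p60 ψ hψ) (hψ 2 (show 2 < 9 by decide)) (d := 10) (show 693 ≤ 2 ^ 10 by decide) comp61

theorem comp62 : allR (compEntry 693 p52 p36 p62) 10 0 = true := by decide +kernel

theorem img_p62 {G : Type*} [Group G] (ψ : G →* Equiv.Perm (Fin 693)) (hψ : ∀ s, s < 9 → IsImg ψ (gT s)) : IsImg ψ p62 :=
  IsImg.comp (img_p52 ψ hψ) (img_p36 ψ hψ) (d := 10) (show 693 ≤ 2 ^ 10 by decide) comp62

theorem comp63 : allR (compEntry 693 p59 p62 p63) 10 0 = true := by decide +kernel

theorem img_p63 {G : Type*} [Group G] (ψ : G →* Equiv.Perm (Fin 693)) (hψ : ∀ s, s < 9 → IsImg ψ (gT s)) : IsImg ψ p63 :=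
  IsImg.comp (img_p59 ψ hψ) (img_p62 ψ hψ) (d := 10) (show 693 ≤ 2 ^ 10 by decide) comp63

theorem comp65 : allR (compEntry 693 p1 p50 p65) 10 0 = true := by decide +kernel

theorem img_p65 {G : Type*} [Group G] (ψ : G →* Equiv.Perm (Fin 693)) (hψ : ∀ s, s < 9 → IsImg ψ (gT s)) : IsImg ψ p65 :=
  IsImg.comp (hψ 1 (show 1 < 9 by decide)) (img_p50 ψ hψ) (d := 10) (show 693 ≤ 2 ^ 10 by decide) comp65

theorem comp66 : allR (compEntry 693 p63 p65 p66) 10 0 = true := by decide +kernel

theorem img_p66 {G : Type*} [Group G] (ψ : G →* Equiv.Perm (Fin 693)) (hψ : ∀ s, s < 9 → IsImg ψ (gT s)) : IsImg ψ p66 :=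
  IsImg.comp (img_p63 ψ hψ) (img_p65 ψ hψ) (d := 10) (show 693 ≤ 2 ^ 10 by decide) comp66

theorem comp67 : allR (compEntry 693 p66 p2 p67) 10 0 = true := by decide +kernel

theorem img_p67 {G : Type*} [Group G] (ψ : G →* Equiv.Perm (Fin 693)) (hψ : ∀ s, s < 9 → IsImg ψ (gT s)) : IsImg ψ p67 :=
  IsImg.comp (img_p66 ψ hψ) (hψ 2 (show 2 < 9 by decide)) (d := 10) (show 693 ≤ 2 ^ 10 by decide) comp67

theorem comp68 : allR (compEntry 693 p67 p5 p68) 10 0 = true := by decide +kernel

theorem img_p68 {G : Type*} [Group G] (ψ : G →* Equiv.Perm (Fin 693)) (hψ : ∀ s, s < 9 → IsImg ψ (gT s)) : IsImg ψ p68 :=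
  IsImg.comp (img_p67 ψ hψ) (hψ 5 (show 5 < 9 by decide)) (d := 10) (show 693 ≤ 2 ^ 10 by decide) comp68

theorem comp69 : allR (compEntry 693 p68 p6 p69) 10 0 = true := by decide +kernel

theorem img_p69 {G : Type*} [Group G] (ψ : G →* Equiv.Perm (Fin 693)) (hψ : ∀ s, s < 9 → IsImg ψ (gT s)) : IsImg ψ p69 :=
  IsImg.comp (img_p68 ψ hψ) (hψ 6 (show 6 < 9 by decide)) (d := 10) (show 693 ≤ 2 ^ 10 by decide) comp69

theorem comp70 : allR (compEntry 693 p69 p8 p70) 10 0 = true := by decide +kernel

theorem img_p70 {G : Type*} [Group G] (ψ : G →* Equiv.Perm (Fin 693)) (hψ : ∀ s, s < 9 → IsImg ψ (gT s)) : IsImg ψ p70 :=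
  IsImg.comp (img_p69 ψ hψ) (hψ 8 (show 8 < 9 by decide)) (d := 10) (show 693 ≤ 2 ^ 10 by decide) comp70

theorem comp71 : allR (compEntry 693 p70 p4 p71) 10 0 = true := by decide +kernel

theorem img_p71 {G : Type*} [Group G] (ψ : G →* Equiv.Perm (Fin 693)) (hψ : ∀ s, s < 9 → IsImg ψ (gT s)) : IsImg ψ p71 :=
  IsImg.comp (img_p70 ψ hψ) (hψ 4 (show 4 < 9 by decide)) (d := 10) (show 693 ≤ 2 ^ 10 by decide) comp71

theorem comp72 : allR (compEntry 693 p71 p3 p72) 10 0 = true := by decide +kernel

theorem img_p72 {G : Type*} [Group G] (ψ : G →* Equiv.Perm (Fin 693)) (hψ : ∀ s, s < 9 → IsImg ψ (gT s)) : IsImg ψ p72 :=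
  IsImg.comp (img_p71 ψ hψ) (hψ 3 (show 3 < 9 by decide)) (d := 10) (show 693 ≤ 2 ^ 10 by decide) comp72

theorem comp73 : allR (compEntry 693 p72 p2 p73) 10 0 = true := by decide +kernel

theorem img_p73 {G : Type*} [Group G] (ψ : G →* Equiv.Perm (Fin 693)) (hψ : ∀ s, s < 9 → IsImg ψ (gT s)) : IsImg ψ p73 :=
  IsImg.comp (img_p72 ψ hψ) (hψ 2 (show 2 < 9 by decide)) (d := 10) (show 693 ≤ 2 ^ 10 by decide) comp73

theorem comp74 : allR (compEntry 693 p66 p32 p74) 10 0 = true := by decide +kernel

theorem img_p74 {G : Type*} [Group G] (ψ : G →* Equiv.Perm (Fin 693)) (hψ : ∀ s, s < 9 → IsImg ψ (gT s)) : IsImg ψ p74 :=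
  IsImg.comp (img_p66 ψ hψ) (img_p32 ψ hψ) (d := 10) (show 693 ≤ 2 ^ 10 by decide) comp74

theorem comp75 : allR (compEntry 693 p74 p3 p75) 10 0 = true := by decide +kernel

theorem img_p75 {G : Type*} [Group G] (ψ : G →* Equiv.Perm (Fin 693)) (hψ : ∀ s, s < 9 → IsImg ψ (gT s)) : IsImg ψ p75 :=
  IsImg.comp (img_p74 ψ hψ) (hψ 3 (show 3 < 9 by decide)) (d := 10) (show 693 ≤ 2 ^ 10 by decide) comp75

theorem comp76 : allR (compEntry 693 p75 p2 p76) 10 0 = true := by decide +kernel

theorem img_p76 {G : Type*} [Group G] (ψ : G →* Equiv.Perm (Fin 693)) (hψ : ∀ s, s < 9 → IsImg ψ (gT s)) : IsImg ψ p76 :=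
  IsImg.comp (img_p75 ψ hψ) (hψ 2 (show 2 < 9 by decide)) (d := 10) (show 693 ≤ 2 ^ 10 by decide) comp76

theorem comp77 : allR (compEntry 693 p76 p5 p77) 10 0 = true := by decide +kernel

theorem img_p77 {G : Type*} [Group G] (ψ : G →* Equiv.Perm (Fin 693)) (hψ : ∀ s, s < 9 → IsImg ψ (gT s)) : IsImg ψ p77 :=
  IsImg.comp (img_p76 ψ hψ) (hψ 5 (show 5 < 9 by decide)) (d := 10) (show 693 ≤ 2 ^ 10 by decide) comp77

theorem comp78 : allR (compEntry 693 p77 p4 p78) 10 0 = true := by decide +kernel

theorem img_p78 {G : Type*} [Group G] (ψ : G →* Equiv.Perm (Fin 693)) (hψ : ∀ s, s < 9 → IsImg ψ (gT s)) : IsImg ψ p78 :=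
  IsImg.comp (img_p77 ψ hψ) (hψ 4 (show 4 < 9 by decide)) (d := 10) (show 693 ≤ 2 ^ 10 by decide) comp78

theorem comp79 : allR (compEntry 693 p78 p3 p79) 10 0 = true := by decide +kernel

theorem img_p79 {G : Type*} [Group G] (ψ : G →* Equiv.Perm (Fin 693)) (hψ : ∀ s, s < 9 → IsImg ψ (gT s)) : IsImg ψ p79 :=
  IsImg.comp (img_p78 ψ hψ) (hψ 3 (show 3 < 9 by decide)) (d := 10) (show 693 ≤ 2 ^ 10 by decide) comp79

theorem comp80 : allR (compEntry 693 p79 p6 p80) 10 0 = true := by decide +kernel

theorem img_p80 {G : Type*} [Group G] (ψ : G →* Equiv.Perm (Fin 693)) (hψ : ∀ s, s < 9 → IsImg ψ (gT s)) : IsImg ψ p80 :=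
  IsImg.comp (img_p79 ψ hψ) (hψ 6 (show 6 < 9 by decide)) (d := 10) (show 693 ≤ 2 ^ 10 by decide) comp80

theorem comp81 : allR (compEntry 693 p80 p2 p81) 10 0 = true := by decide +kernel

theorem img_p81 {G : Type*} [Group G] (ψ : G →* Equiv.Perm (Fin 693)) (hψ : ∀ s, s < 9 → IsImg ψ (gT s)) : IsImg ψ p81 :=
  IsImg.comp (img_p80 ψ hψ) (hψ 2 (show 2 < 9 by decide)) (d := 10) (show 693 ≤ 2 ^ 10 by decide) comp81

theorem comp82 : allR (compEntry 693 p9 p56 p82) 10 0 = true := by decide +kernel

theorem img_p82 {G : Type*} [Group G] (ψ : G →* Equiv.Perm (Fin 693)) (hψ : ∀ s, s < 9 → IsImg ψ (gT s)) : IsImg ψ p82 :=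
  IsImg.comp (img_p9 ψ hψ) (img_p56 ψ hψ) (d := 10) (show 693 ≤ 2 ^ 10 by decide) comp82

theorem comp83 : allR (compEntry 693 p74 p82 p83) 10 0 = true := by decide +kernel

theorem img_p83 {G : Type*} [Group G] (ψ : G →* Equiv.Perm (Fin 693)) (hψ : ∀ s, s < 9 → IsImg ψ (gT s)) : IsImg ψ p83 :=
  IsImg.comp (img_p74 ψ hψ) (img_p82 ψ hψ) (d := 10) (show 693 ≤ 2 ^ 10 by decide) comp83

theorem comp84 : allR (compEntry 693 p58 p11 p84) 10 0 = true := by decide +kernel

theorem img_p84 {G : Type*} [Group G] (ψ : G →* Equiv.Perm (Fin 693)) (hψ : ∀ s, s < 9 → IsImg ψ (gT s)) : IsImg ψ p84 :=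
  IsImg.comp (img_p58 ψ hψ) (img_p11 ψ hψ) (d := 10) (show 693 ≤ 2 ^ 10 by decide) comp84

theorem comp85 : allR (compEntry 693 p83 p84 p85) 10 0 = true := by decide +kernel

theorem img_p85 {G : Type*} [Group G] (ψ : G →* Equiv.Perm (Fin 693)) (hψ : ∀ s, s < 9 → IsImg ψ (gT s)) : IsImg ψ p85 :=
  IsImg.comp (img_p83 ψ hψ) (img_p84 ψ hψ) (d := 10) (show 693 ≤ 2 ^ 10 by decide) comp85

theorem comp86 : allR (compEntry 693 p85 p4 p86) 10 0 = true := by decide +kernel

theorem img_p86 {G : Type*} [Group G] (ψ : G →* Equiv.Perm (Fin 693)) (hψ : ∀ s, s < 9 → IsImg ψ (gT s)) : IsImg ψ p86 :=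
  IsImg.comp (img_p85 ψ hψ) (hψ 4 (show 4 < 9 by decide)) (d := 10) (show 693 ≤ 2 ^ 10 by decide) comp86

theorem comp87 : allR (compEntry 693 p86 p3 p87) 10 0 = true := by decide +kernel

theorem img_p87 {G : Type*} [Group G] (ψ : G →* Equiv.Perm (Fin 693)) (hψ : ∀ s, s < 9 → IsImg ψ (gT s)) : IsImg ψ p87 :=
  IsImg.comp (img_p86 ψ hψ) (hψ 3 (show 3 < 9 by decide)) (d := 10) (show 693 ≤ 2 ^ 10 by decide) comp87

theorem comp88 : allR (compEntry 693 p87 p2 p88) 10 0 = true := by decide +kernel

theorem img_p88 {G : Type*} [Group G] (ψ : G →* Equiv.Perm (Fin 693)) (hψ : ∀ s, s < 9 → IsImg ψ (gT s)) : IsImg ψ p88 :=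
  IsImg.comp (img_p87 ψ hψ) (hψ 2 (show 2 < 9 by decide)) (d := 10) (show 693 ≤ 2 ^ 10 by decide) comp88

theorem comp89 : allR (compEntry 693 p88 p5 p89) 10 0 = true := by decide +kernel

theorem img_p89 {G : Type*} [Group G] (ψ : G →* Equiv.Perm (Fin 693)) (hψ : ∀ s, s < 9 → IsImg ψ (gT s)) : IsImg ψ p89 :=
  IsImg.comp (img_p88 ψ hψ) (hψ 5 (show 5 < 9 by decide)) (d := 10) (show 693 ≤ 2 ^ 10 by decide) comp89

theorem comp90 : allR (compEntry 693 p89 p4 p90) 10 0 = true := by decide +kernel

theorem img_p90 {G : Type*} [Group G] (ψ : G →* Equiv.Perm (Fin 693)) (hψ : ∀ s, s < 9 → IsImg ψ (gT s)) : IsImg ψ p90 :=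
  IsImg.comp (img_p89 ψ hψ) (hψ 4 (show 4 < 9 by decide)) (d := 10) (show 693 ≤ 2 ^ 10 by decide) comp90

theorem comp91 : allR (compEntry 693 p90 p3 p91) 10 0 = true := by decide +kernel

theorem img_p91 {G : Type*} [Group G] (ψ : G →* Equiv.Perm (Fin 693)) (hψ : ∀ s, s < 9 → IsImg ψ (gT s)) : IsImg ψ p91 :=
  IsImg.comp (img_p90 ψ hψ) (hψ 3 (show 3 < 9 by decide)) (d := 10) (show 693 ≤ 2 ^ 10 by decide) comp91

theorem comp92 : allR (compEntry 693 p91 p7 p92) 10 0 = true := by decide +kernel

theorem img_p92 {G : Type*} [Group G] (ψ : G →* Equiv.Perm (Fin 693)) (hψ : ∀ s, s < 9 → IsImg ψ (gT s)) : IsImg ψ p92 :=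
  IsImg.comp (img_p91 ψ hψ) (hψ 7 (show 7 < 9 by decide)) (d := 10) (show 693 ≤ 2 ^ 10 by decide) comp92

theorem comp93 : allR (compEntry 693 p92 p6 p93) 10 0 = true := by decide +kernel

theorem img_p93 {G : Type*} [Group G] (ψ : G →* Equiv.Perm (Fin 693)) (hψ : ∀ s, s < 9 → IsImg ψ (gT s)) : IsImg ψ p93 :=
  IsImg.comp (img_p92 ψ hψ) (hψ 6 (show 6 < 9 by decide)) (d := 10) (show 693 ≤ 2 ^ 10 by decide) comp93

theorem comp94 : allR (compEntry 693 p93 p2 p94) 10 0 = true := by decide +kernel

theorem img_p94 {G : Type*} [Group G] (ψ : G →* Equiv.Perm (Fin 693)) (hψ : ∀ s, s < 9 → IsImg ψ (gT s)) : IsImg ψ p94 :=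
  IsImg.comp (img_p93 ψ hψ) (hψ 2 (show 2 < 9 by decide)) (d := 10) (show 693 ≤ 2 ^ 10 by decide) comp94

theorem comp95 : allR (compEntry 693 p94 p94 p95) 10 0 = true := by decide +kernel

theorem img_p95 {G : Type*} [Group G] (ψ : G →* Equiv.Perm (Fin 693)) (hψ : ∀ s, s < 9 → IsImg ψ (gT s)) : IsImg ψ p95 :=
  IsImg.comp (img_p94 ψ hψ) (img_p94 ψ hψ) (d := 10) (show 693 ≤ 2 ^ 10 by decide) comp95

theorem comp96 : allR (compEntry 693 p61 p95 p96) 10 0 = true := by decide +kernel

theorem img_p96 {G : Type*} [Group G] (ψ : G →* Equiv.Perm (Fin 693)) (hψ : ∀ s, s < 9 → IsImg ψ (gT s)) : IsImg ψ p96 :=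
  IsImg.comp (img_p61 ψ hψ) (img_p95 ψ hψ) (d := 10) (show 693 ≤ 2 ^ 10 by decide) comp96

theorem comp97 : allR (compEntry 693 p94 p73 p97) 10 0 = true := by decide +kernel

theorem img_p97 {G : Type*} [Group G] (ψ : G →* Equiv.Perm (Fin 693)) (hψ : ∀ s, s < 9 → IsImg ψ (gT s)) : IsImg ψ p97 :=
  IsImg.comp (img_p94 ψ hψ) (img_p73 ψ hψ) (d := 10) (show 693 ≤ 2 ^ 10 by decide) comp97

theorem comp98 : allR (compEntry 693 p96 p97 p98) 10 0 = true := by decide +kernel

theorem img_p98 {G : Type*} [Group G] (ψ : G →* Equiv.Perm (Fin 693)) (hψ : ∀ s, s < 9 → IsImg ψ (gT s)) : IsImg ψ p98 :=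
  IsImg.comp (img_p96 ψ hψ) (img_p97 ψ hψ) (d := 10) (show 693 ≤ 2 ^ 10 by decide) comp98

theorem comp99 : allR (compEntry 693 p94 p81 p99) 10 0 = true := by decide +kernel

theorem img_p99 {G : Type*} [Group G] (ψ : G →* Equiv.Perm (Fin 693)) (hψ : ∀ s, s < 9 → IsImg ψ (gT s)) : IsImg ψ p99 :=
  IsImg.comp (img_p94 ψ hψ) (img_p81 ψ hψ) (d := 10) (show 693 ≤ 2 ^ 10 by decide) comp99

theorem comp100 : allR (compEntry 693 p98 p99 p100) 10 0 = true := by decide +kernel

theorem img_p100 {G : Type*} [Group G] (ψ : G →* Equiv.Perm (Fin 693)) (hψ : ∀ s, s < 9 → IsImg ψ (gT s)) : IsImg ψ p100 :=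
  IsImg.comp (img_p98 ψ hψ) (img_p99 ψ hψ) (d := 10) (show 693 ≤ 2 ^ 10 by decide) comp100

theorem comp101 : allR (compEntry 693 p100 p99 p101) 10 0 = true := by decide +kernel

theorem img_p101 {G : Type*} [Group G] (ψ : G →* Equiv.Perm (Fin 693)) (hψ : ∀ s, s < 9 → IsImg ψ (gT s)) : IsImg ψ p101 :=
  IsImg.comp (img_p100 ψ hψ) (img_p99 ψ hψ) (d := 10) (show 693 ≤ 2 ^ 10 by decide) comp101

theorem comp102 : allR (compEntry 693 p94 p99 p102) 10 0 = true := by decide +kernel

theorem img_p102 {G : Type*} [Group G] (ψ : G →* Equiv.Perm (Fin 693)) (hψ : ∀ s, s < 9 → IsImg ψ (gT s)) : IsImg ψ p102 :=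
  IsImg.comp (img_p94 ψ hψ) (img_p99 ψ hψ) (d := 10) (show 693 ≤ 2 ^ 10 by decide) comp102

theorem comp103 : allR (compEntry 693 p101 p102 p103) 10 0 = true := by decide +kernel

theorem img_p103 {G : Type*} [Group G] (ψ : G →* Equiv.Perm (Fin 693)) (hψ : ∀ s, s < 9 → IsImg ψ (gT s)) : IsImg ψ p103 :=
  IsImg.comp (img_p101 ψ hψ) (img_p102 ψ hψ) (d := 10) (show 693 ≤ 2 ^ 10 by decide) comp103

theorem comp104 : allR (compEntry 693 p73 p94 p104) 10 0 = true := by decide +kernel

theorem img_p104 {G : Type*} [Group G] (ψ : G →* Equiv.Perm (Fin 693)) (hψ : ∀ s, s < 9 → IsImg ψ (gT s)) : IsImg ψ p104 :=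
  IsImg.comp (img_p73 ψ hψ) (img_p94 ψ hψ) (d := 10) (show 693 ≤ 2 ^ 10 by decide) comp104

theorem comp105 : allR (compEntry 693 p103 p104 p105) 10 0 = true := by decide +kernel

theorem img_p105 {G : Type*} [Group G] (ψ : G →* Equiv.Perm (Fin 693)) (hψ : ∀ s, s < 9 → IsImg ψ (gT s)) : IsImg ψ p105 :=
  IsImg.comp (img_p103 ψ hψ) (img_p104 ψ hψ) (d := 10) (show 693 ≤ 2 ^ 10 by decide) comp105

theorem comp106 : allR (compEntry 693 p105 p99 p106) 10 0 = true := by decide +kernel

theorem img_p106 {G : Type*} [Group G] (ψ : G →* Equiv.Perm (Fin 693)) (hψ : ∀ s, s < 9 → IsImg ψ (gT s)) : IsImg ψ p106 :=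
  IsImg.comp (img_p105 ψ hψ) (img_p99 ψ hψ) (d := 10) (show 693 ≤ 2 ^ 10 by decide) comp106

theorem comp107 : allR (compEntry 693 p97 p99 p107) 10 0 = true := by decide +kernel

theorem img_p107 {G : Type*} [Group G] (ψ : G →* Equiv.Perm (Fin 693)) (hψ : ∀ s, s < 9 → IsImg ψ (gT s)) : IsImg ψ p107 :=
  IsImg.comp (img_p97 ψ hψ) (img_p99 ψ hψ) (d := 10) (show 693 ≤ 2 ^ 10 by decide) comp107

theorem comp108 : allR (compEntry 693 p106 p107 p108) 10 0 = true := by decide +kernel

theorem img_p108 {G : Type*} [Group G] (ψ : G →* Equiv.Perm (Fin 693)) (hψ : ∀ s, s < 9 → IsImg ψ (gT s)) : IsImg ψ p108 :=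
  IsImg.comp (img_p106 ψ hψ) (img_p107 ψ hψ) (d := 10) (show 693 ≤ 2 ^ 10 by decide) comp108

theorem comp109 : allR (compEntry 693 p95 p61 p109) 10 0 = true := by decide +kernel

theorem img_p109 {G : Type*} [Group G] (ψ : G →* Equiv.Perm (Fin 693)) (hψ : ∀ s, s < 9 → IsImg ψ (gT s)) : IsImg ψ p109 :=
  IsImg.comp (img_p95 ψ hψ) (img_p61 ψ hψ) (d := 10) (show 693 ≤ 2 ^ 10 by decide) comp109

theorem comp110 : allR (compEntry 693 p108 p109 p110) 10 0 = true := by decide +kernel

theorem img_p110 {G : Type*} [Group G] (ψ : G →* Equiv.Perm (Fin 693)) (hψ : ∀ s, s < 9 → IsImg ψ (gT s)) : IsImg ψ p110 :=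
  IsImg.comp (img_p108 ψ hψ) (img_p109 ψ hψ) (d := 10) (show 693 ≤ 2 ^ 10 by decide) comp110

theorem comp111 : allR (compEntry 693 p102 p104 p111) 10 0 = true := by decide +kernel

theorem img_p111 {G : Type*} [Group G] (ψ : G →* Equiv.Perm (Fin 693)) (hψ : ∀ s, s < 9 → IsImg ψ (gT s)) : IsImg ψ p111 :=
  IsImg.comp (img_p102 ψ hψ) (img_p104 ψ hψ) (d := 10) (show 693 ≤ 2 ^ 10 by decide) comp111

theorem comp112 : allR (compEntry 693 p110 p111 p112) 10 0 = true := by decide +kernel

theorem img_p112 {G : Type*} [Group G] (ψ : G →* Equiv.Perm (Fin 693)) (hψ : ∀ s, s < 9 → IsImg ψ (gT s)) : IsImg ψ p112 :=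
  IsImg.comp (img_p110 ψ hψ) (img_p111 ψ hψ) (d := 10) (show 693 ≤ 2 ^ 10 by decide) comp112

theorem comp113 : allR (compEntry 693 p104 p99 p113) 10 0 = true := by decide +kernel

theorem img_p113 {G : Type*} [Group G] (ψ : G →* Equiv.Perm (Fin 693)) (hψ : ∀ s, s < 9 → IsImg ψ (gT s)) : IsImg ψ p113 :=
  IsImg.comp (img_p104 ψ hψ) (img_p99 ψ hψ) (d := 10) (show 693 ≤ 2 ^ 10 by decide) comp113

theorem comp114 : allR (compEntry 693 p112 p113 p114) 10 0 = true := by decide +kernel

theorem img_p114 {G : Type*} [Group G] (ψ : G →* Equiv.Perm (Fin 693)) (hψ : ∀ s, s < 9 → IsImg ψ (gT s)) : IsImg ψ p114 :=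
  IsImg.comp (img_p112 ψ hψ) (img_p113 ψ hψ) (d := 10) (show 693 ≤ 2 ^ 10 by decide) comp114

theorem comp115 : allR (compEntry 693 p107 p113 p115) 10 0 = true := by decide +kernel

theorem img_p115 {G : Type*} [Group G] (ψ : G →* Equiv.Perm (Fin 693)) (hψ : ∀ s, s < 9 → IsImg ψ (gT s)) : IsImg ψ p115 :=
  IsImg.comp (img_p107 ψ hψ) (img_p113 ψ hψ) (d := 10) (show 693 ≤ 2 ^ 10 by decide) comp115

theorem comp116 : allR (compEntry 693 p114 p115 p116) 10 0 = true := by decide +kernel

theorem img_p116 {G : Type*} [Group G] (ψ : G →* Equiv.Perm (Fin 693)) (hψ : ∀ s, s < 9 → IsImg ψ (gT s)) : IsImg ψ p116 :=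
  IsImg.comp (img_p114 ψ hψ) (img_p115 ψ hψ) (d := 10) (show 693 ≤ 2 ^ 10 by decide) comp116

theorem comp117 : allR (compEntry 693 p94 p61 p117) 10 0 = true := by decide +kernel

theorem img_p117 {G : Type*} [Group G] (ψ : G →* Equiv.Perm (Fin 693)) (hψ : ∀ s, s < 9 → IsImg ψ (gT s)) : IsImg ψ p117 :=
  IsImg.comp (img_p94 ψ hψ) (img_p61 ψ hψ) (d := 10) (show 693 ≤ 2 ^ 10 by decide) comp117

theorem comp118 : allR (compEntry 693 p116 p117 p118) 10 0 = true := by decide +kernel

theorem img_p118 {G : Type*} [Group G] (ψ : G →* Equiv.Perm (Fin 693)) (hψ : ∀ s, s < 9 → IsImg ψ (gT s)) : IsImg ψ p118 :=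
  IsImg.comp (img_p116 ψ hψ) (img_p117 ψ hψ) (d := 10) (show 693 ≤ 2 ^ 10 by decide) comp118

theorem comp119 : allR (compEntry 693 p94 p107 p119) 10 0 = true := by decide +kernel

theorem img_p119 {G : Type*} [Group G] (ψ : G →* Equiv.Perm (Fin 693)) (hψ : ∀ s, s < 9 → IsImg ψ (gT s)) : IsImg ψ p119 :=
  IsImg.comp (img_p94 ψ hψ) (img_p107 ψ hψ) (d := 10) (show 693 ≤ 2 ^ 10 by decide) comp119

theorem comp120 : allR (compEntry 693 p118 p119 p120) 10 0 = true := by decide +kernel

theorem img_p120 {G : Type*} [Group G] (ψ : G →* Equiv.Perm (Fin 693)) (hψ : ∀ s, s < 9 → IsImg ψ (gT s)) : IsImg ψ p120 :=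
  IsImg.comp (img_p118 ψ hψ) (img_p119 ψ hψ) (d := 10) (show 693 ≤ 2 ^ 10 by decide) comp120

theorem comp121 : allR (compEntry 693 p61 p111 p121) 10 0 = true := by decide +kernel

theorem img_p121 {G : Type*} [Group G] (ψ : G →* Equiv.Perm (Fin 693)) (hψ : ∀ s, s < 9 → IsImg ψ (gT s)) : IsImg ψ p121 :=
  IsImg.comp (img_p61 ψ hψ) (img_p111 ψ hψ) (d := 10) (show 693 ≤ 2 ^ 10 by decide) comp121

theorem comp122 : allR (compEntry 693 p120 p121 p122) 10 0 = true := by decide +kernel

theorem img_p122 {G : Type*} [Group G] (ψ : G →* Equiv.Perm (Fin 693)) (hψ : ∀ s, s < 9 → IsImg ψ (gT s)) : IsImg ψ p122 :=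
  IsImg.comp (img_p120 ψ hψ) (img_p121 ψ hψ) (d := 10) (show 693 ≤ 2 ^ 10 by decide) comp122

theorem comp123 : allR (compEntry 693 p94 p115 p123) 10 0 = true := by decide +kernel

theorem img_p123 {G : Type*} [Group G] (ψ : G →* Equiv.Perm (Fin 693)) (hψ : ∀ s, s < 9 → IsImg ψ (gT s)) : IsImg ψ p123 :=
  IsImg.comp (img_p94 ψ hψ) (img_p115 ψ hψ) (d := 10) (show 693 ≤ 2 ^ 10 by decide) comp123

theorem comp124 : allR (compEntry 693 p122 p123 p124) 10 0 = true := by decide +kernel

theorem img_p124 {G : Type*} [Group G] (ψ : G →* Equiv.Perm (Fin 693)) (hψ : ∀ s, s < 9 → IsImg ψ (gT s)) : IsImg ψ p124 :=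
  IsImg.comp (img_p122 ψ hψ) (img_p123 ψ hψ) (d := 10) (show 693 ≤ 2 ^ 10 by decide) comp124

theorem comp125 : allR (compEntry 693 p119 p111 p125) 10 0 = true := by decide +kernel

theorem img_p125 {G : Type*} [Group G] (ψ : G →* Equiv.Perm (Fin 693)) (hψ : ∀ s, s < 9 → IsImg ψ (gT s)) : IsImg ψ p125 :=
  IsImg.comp (img_p119 ψ hψ) (img_p111 ψ hψ) (d := 10) (show 693 ≤ 2 ^ 10 by decide) comp125

theorem comp126 : allR (compEntry 693 p124 p125 p126) 10 0 = true := by decide +kernel

theorem img_p126 {G : Type*} [Group G] (ψ : G →* Equiv.Perm (Fin 693)) (hψ : ∀ s, s < 9 → IsImg ψ (gT s)) : IsImg ψ p126 :=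
  IsImg.comp (img_p124 ψ hψ) (img_p125 ψ hψ) (d := 10) (show 693 ≤ 2 ^ 10 by decide) comp126

theorem comp127 : allR (compEntry 693 p123 p117 p127) 10 0 = true := by decide +kernel

theorem img_p127 {G : Type*} [Group G] (ψ : G →* Equiv.Perm (Fin 693)) (hψ : ∀ s, s < 9 → IsImg ψ (gT s)) : IsImg ψ p127 :=
  IsImg.comp (img_p123 ψ hψ) (img_p117 ψ hψ) (d := 10) (show 693 ≤ 2 ^ 10 by decide) comp127

theorem comp128 : allR (compEntry 693 p126 p127 p128) 10 0 = true := by decide +kernel

theorem img_p128 {G : Type*} [Group G] (ψ : G →* Equiv.Perm (Fin 693)) (hψ : ∀ s, s < 9 → IsImg ψ (gT s)) : IsImg ψ p128 :=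
  IsImg.comp (img_p126 ψ hψ) (img_p127 ψ hψ) (d := 10) (show 693 ≤ 2 ^ 10 by decide) comp128

theorem comp129 : allR (compEntry 693 p125 p123 p129) 10 0 = true := by decide +kernel

theorem img_p129 {G : Type*} [Group G] (ψ : G →* Equiv.Perm (Fin 693)) (hψ : ∀ s, s < 9 → IsImg ψ (gT s)) : IsImg ψ p129 :=
  IsImg.comp (img_p125 ψ hψ) (img_p123 ψ hψ) (d := 10) (show 693 ≤ 2 ^ 10 by decide) comp129

theorem comp130 : allR (compEntry 693 p128 p129 p130) 10 0 = true := by decide +kernel

theorem img_p130 {G : Type*} [Group G] (ψ : G →* Equiv.Perm (Fin 693)) (hψ : ∀ s, s < 9 → IsImg ψ (gT s)) : IsImg ψ p130 :=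
  IsImg.comp (img_p128 ψ hψ) (img_p129 ψ hψ) (d := 10) (show 693 ≤ 2 ^ 10 by decide) comp130

theorem comp131 : allR (compEntry 693 p123 p94 p131) 10 0 = true := by decide +kernel

theorem img_p131 {G : Type*} [Group G] (ψ : G →* Equiv.Perm (Fin 693)) (hψ : ∀ s, s < 9 → IsImg ψ (gT s)) : IsImg ψ p131 :=
  IsImg.comp (img_p123 ψ hψ) (img_p94 ψ hψ) (d := 10) (show 693 ≤ 2 ^ 10 by decide) comp131

theorem comp132 : allR (compEntry 693 p130 p131 p132) 10 0 = true := by decide +kernel

theorem img_p132 {G : Type*} [Group G] (ψ : G →* Equiv.Perm (Fin 693)) (hψ : ∀ s, s < 9 → IsImg ψ (gT s)) : IsImg ψ p132 :=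
  IsImg.comp (img_p130 ψ hψ) (img_p131 ψ hψ) (d := 10) (show 693 ≤ 2 ^ 10 by decide) comp132

theorem comp133 : allR (compEntry 693 p119 p104 p133) 10 0 = true := by decide +kernel

theorem img_p133 {G : Type*} [Group G] (ψ : G →* Equiv.Perm (Fin 693)) (hψ : ∀ s, s < 9 → IsImg ψ (gT s)) : IsImg ψ p133 :=
  IsImg.comp (img_p119 ψ hψ) (img_p104 ψ hψ) (d := 10) (show 693 ≤ 2 ^ 10 by decide) comp133

theorem comp134 : allR (compEntry 693 p132 p133 p134) 10 0 = true := by decide +kernel

theorem img_p134 {G : Type*} [Group G] (ψ : G →* Equiv.Perm (Fin 693)) (hψ : ∀ s, s < 9 → IsImg ψ (gT s)) : IsImg ψ p134 :=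
  IsImg.comp (img_p132 ψ hψ) (img_p133 ψ hψ) (d := 10) (show 693 ≤ 2 ^ 10 by decide) comp134

theorem comp135 : allR (compEntry 693 p133 p121 p135) 10 0 = true := by decide +kernel

theorem img_p135 {G : Type*} [Group G] (ψ : G →* Equiv.Perm (Fin 693)) (hψ : ∀ s, s < 9 → IsImg ψ (gT s)) : IsImg ψ p135 :=
  IsImg.comp (img_p133 ψ hψ) (img_p121 ψ hψ) (d := 10) (show 693 ≤ 2 ^ 10 by decide) comp135

theorem comp136 : allR (compEntry 693 p134 p135 p136) 10 0 = true := by decide +kernel

theorem img_p136 {G : Type*} [Group G] (ψ : G →* Equiv.Perm (Fin 693)) (hψ : ∀ s, s < 9 → IsImg ψ (gT s)) : IsImg ψ p136 :=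
  IsImg.comp (img_p134 ψ hψ) (img_p135 ψ hψ) (d := 10) (show 693 ≤ 2 ^ 10 by decide) comp136

theorem comp137 : allR (compEntry 693 p129 p133 p137) 10 0 = true := by decide +kernel

theorem img_p137 {G : Type*} [Group G] (ψ : G →* Equiv.Perm (Fin 693)) (hψ : ∀ s, s < 9 → IsImg ψ (gT s)) : IsImg ψ p137 :=
  IsImg.comp (img_p129 ψ hψ) (img_p133 ψ hψ) (d := 10) (show 693 ≤ 2 ^ 10 by decide) comp137

theorem comp138 : allR (compEntry 693 p136 p137 p138) 10 0 = true := by decide +kernel

theorem img_p138 {G : Type*} [Group G] (ψ : G →* Equiv.Perm (Fin 693)) (hψ : ∀ s, s < 9 → IsImg ψ (gT s)) : IsImg ψ p138 :=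
  IsImg.comp (img_p136 ψ hψ) (img_p137 ψ hψ) (d := 10) (show 693 ≤ 2 ^ 10 by decide) comp138

theorem comp139 : allR (compEntry 693 p131 p129 p139) 10 0 = true := by decide +kernel

theorem img_p139 {G : Type*} [Group G] (ψ : G →* Equiv.Perm (Fin 693)) (hψ : ∀ s, s < 9 → IsImg ψ (gT s)) : IsImg ψ p139 :=
  IsImg.comp (img_p131 ψ hψ) (img_p129 ψ hψ) (d := 10) (show 693 ≤ 2 ^ 10 by decide) comp139

theorem comp140 : allR (compEntry 693 p138 p139 p140) 10 0 = true := by decide +kernel

theorem img_p140 {G : Type*} [Group G] (ψ : G →* Equiv.Perm (Fin 693)) (hψ : ∀ s, s < 9 → IsImg ψ (gT s)) : IsImg ψ p140 :=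
  IsImg.comp (img_p138 ψ hψ) (img_p139 ψ hψ) (d := 10) (show 693 ≤ 2 ^ 10 by decide) comp140

theorem comp141 : allR (compEntry 693 p123 p99 p141) 10 0 = true := by decide +kernel

theorem img_p141 {G : Type*} [Group G] (ψ : G →* Equiv.Perm (Fin 693)) (hψ : ∀ s, s < 9 → IsImg ψ (gT s)) : IsImg ψ p141 :=
  IsImg.comp (img_p123 ψ hψ) (img_p99 ψ hψ) (d := 10) (show 693 ≤ 2 ^ 10 by decide) comp141

theorem comp142 : allR (compEntry 693 p140 p141 p142) 10 0 = true := by decide +kernel

theorem img_p142 {G : Type*} [Group G] (ψ : G →* Equiv.Perm (Fin 693)) (hψ : ∀ s, s < 9 → IsImg ψ (gT s)) : IsImg ψ p142 :=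
  IsImg.comp (img_p140 ψ hψ) (img_p141 ψ hψ) (d := 10) (show 693 ≤ 2 ^ 10 by decide) comp142

theorem comp143 : allR (compEntry 693 p137 p127 p143) 10 0 = true := by decide +kernel

theorem img_p143 {G : Type*} [Group G] (ψ : G →* Equiv.Perm (Fin 693)) (hψ : ∀ s, s < 9 → IsImg ψ (gT s)) : IsImg ψ p143 :=
  IsImg.comp (img_p137 ψ hψ) (img_p127 ψ hψ) (d := 10) (show 693 ≤ 2 ^ 10 by decide) comp143

theorem comp144 : allR (compEntry 693 p142 p143 p144) 10 0 = true := by decide +kernel

theorem img_p144 {G : Type*} [Group G] (ψ : G →* Equiv.Perm (Fin 693)) (hψ : ∀ s, s < 9 → IsImg ψ (gT s)) : IsImg ψ p144 :=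
  IsImg.comp (img_p142 ψ hψ) (img_p143 ψ hψ) (d := 10) (show 693 ≤ 2 ^ 10 by decide) comp144

theorem comp145 : allR (compEntry 693 p141 p131 p145) 10 0 = true := by decide +kernel

theorem img_p145 {G : Type*} [Group G] (ψ : G →* Equiv.Perm (Fin 693)) (hψ : ∀ s, s < 9 → IsImg ψ (gT s)) : IsImg ψ p145 :=
  IsImg.comp (img_p141 ψ hψ) (img_p131 ψ hψ) (d := 10) (show 693 ≤ 2 ^ 10 by decide) comp145

theorem comp146 : allR (compEntry 693 p144 p145 p146) 10 0 = true := by decide +kernel

theorem img_p146 {G : Type*} [Group G] (ψ : G →* Equiv.Perm (Fin 693)) (hψ : ∀ s, s < 9 → IsImg ψ (gT s)) : IsImg ψ p146 :=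
  IsImg.comp (img_p144 ψ hψ) (img_p145 ψ hψ) (d := 10) (show 693 ≤ 2 ^ 10 by decide) comp146

theorem comp147 : allR (compEntry 693 p143 p141 p147) 10 0 = true := by decide +kernel

theorem img_p147 {G : Type*} [Group G] (ψ : G →* Equiv.Perm (Fin 693)) (hψ : ∀ s, s < 9 → IsImg ψ (gT s)) : IsImg ψ p147 :=
  IsImg.comp (img_p143 ψ hψ) (img_p141 ψ hψ) (d := 10) (show 693 ≤ 2 ^ 10 by decide) comp147

theorem comp148 : allR (compEntry 693 p146 p147 p148) 10 0 = true := by decide +kernel

theorem img_p148 {G : Type*} [Group G] (ψ : G →* Equiv.Perm (Fin 693)) (hψ : ∀ s, s < 9 → IsImg ψ (gT s)) : IsImg ψ p148 :=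
  IsImg.comp (img_p146 ψ hψ) (img_p147 ψ hψ) (d := 10) (show 693 ≤ 2 ^ 10 by decide) comp148

theorem comp149 : allR (compEntry 693 p137 p115 p149) 10 0 = true := by decide +kernel

theorem img_p149 {G : Type*} [Group G] (ψ : G →* Equiv.Perm (Fin 693)) (hψ : ∀ s, s < 9 → IsImg ψ (gT s)) : IsImg ψ p149 :=
  IsImg.comp (img_p137 ψ hψ) (img_p115 ψ hψ) (d := 10) (show 693 ≤ 2 ^ 10 by decide) comp149

theorem comp150 : allR (compEntry 693 p148 p149 p150) 10 0 = true := by decide +kernel

theorem img_p150 {G : Type*} [Group G] (ψ : G →* Equiv.Perm (Fin 693)) (hψ : ∀ s, s < 9 → IsImg ψ (gT s)) : IsImg ψ p150 :=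
  IsImg.comp (img_p148 ψ hψ) (img_p149 ψ hψ) (d := 10) (show 693 ≤ 2 ^ 10 by decide) comp150

theorem comp151 : allR (compEntry 693 p99 p141 p151) 10 0 = true := by decide +kernel

theorem img_p151 {G : Type*} [Group G] (ψ : G →* Equiv.Perm (Fin 693)) (hψ : ∀ s, s < 9 → IsImg ψ (gT s)) : IsImg ψ p151 :=
  IsImg.comp (img_p99 ψ hψ) (img_p141 ψ hψ) (d := 10) (show 693 ≤ 2 ^ 10 by decide) comp151

theorem comp152 : allR (compEntry 693 p150 p151 p152) 10 0 = true := by decide +kernel

theorem img_p152 {G : Type*} [Group G] (ψ : G →* Equiv.Perm (Fin 693)) (hψ : ∀ s, s < 9 → IsImg ψ (gT s)) : IsImg ψ p152 :=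
  IsImg.comp (img_p150 ψ hψ) (img_p151 ψ hψ) (d := 10) (show 693 ≤ 2 ^ 10 by decide) comp152

theorem comp153 : allR (compEntry 693 p152 p81 p153) 10 0 = true := by decide +kernel

theorem img_p153 {G : Type*} [Group G] (ψ : G →* Equiv.Perm (Fin 693)) (hψ : ∀ s, s < 9 → IsImg ψ (gT s)) : IsImg ψ p153 :=
  IsImg.comp (img_p152 ψ hψ) (img_p81 ψ hψ) (d := 10) (show 693 ≤ 2 ^ 10 by decide) comp153

theorem comp154 : allR (compEntry 693 p153 p73 p154) 10 0 = true := by decide +kernel

theorem img_p154 {G : Type*} [Group G] (ψ : G →* Equiv.Perm (Fin 693)) (hψ : ∀ s, s < 9 → IsImg ψ (gT s)) : IsImg ψ p154 :=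
  IsImg.comp (img_p153 ψ hψ) (img_p73 ψ hψ) (d := 10) (show 693 ≤ 2 ^ 10 by decide) comp154

theorem comp155 : allR (compEntry 693 p154 p73 p155) 10 0 = true := by decide +kernel

theorem img_p155 {G : Type*} [Group G] (ψ : G →* Equiv.Perm (Fin 693)) (hψ : ∀ s, s < 9 → IsImg ψ (gT s)) : IsImg ψ p155 :=
  IsImg.comp (img_p154 ψ hψ) (img_p73 ψ hψ) (d := 10) (show 693 ≤ 2 ^ 10 by decide) comp155

theorem comp156 : allR (compEntry 693 p147 p145 p156) 10 0 = true := by decide +kernel

theorem img_p156 {G : Type*} [Group G] (ψ : G →* Equiv.Perm (Fin 693)) (hψ : ∀ s, s < 9 → IsImg ψ (gT s)) : IsImg ψ p156 :=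
  IsImg.comp (img_p147 ψ hψ) (img_p145 ψ hψ) (d := 10) (show 693 ≤ 2 ^ 10 by decide) comp156

theorem comp157 : allR (compEntry 693 p152 p156 p157) 10 0 = true := by decide +kernel

theorem img_p157 {G : Type*} [Group G] (ψ : G →* Equiv.Perm (Fin 693)) (hψ : ∀ s, s < 9 → IsImg ψ (gT s)) : IsImg ψ p157 :=
  IsImg.comp (img_p152 ψ hψ) (img_p156 ψ hψ) (d := 10) (show 693 ≤ 2 ^ 10 by decide) comp157

theorem comp158 : allR (compEntry 693 p157 p61 p158) 10 0 = true := by decide +kernel

theorem img_p158 {G : Type*} [Group G] (ψ : G →* Equiv.Perm (Fin 693)) (hψ : ∀ s, s < 9 → IsImg ψ (gT s)) : IsImg ψ p158 :=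
  IsImg.comp (img_p157 ψ hψ) (img_p61 ψ hψ) (d := 10) (show 693 ≤ 2 ^ 10 by decide) comp158

theorem comp159 : allR (compEntry 693 p158 p81 p159) 10 0 = true := by decide +kernel

theorem img_p159 {G : Type*} [Group G] (ψ : G →* Equiv.Perm (Fin 693)) (hψ : ∀ s, s < 9 → IsImg ψ (gT s)) : IsImg ψ p159 :=
  IsImg.comp (img_p158 ψ hψ) (img_p81 ψ hψ) (d := 10) (show 693 ≤ 2 ^ 10 by decide) comp159

theorem comp160 : allR (compEntry 693 p159 p94 p160) 10 0 = true := by decide +kernel

theorem img_p160 {G : Type*} [Group G] (ψ : G →* Equiv.Perm (Fin 693)) (hψ : ∀ s, s < 9 → IsImg ψ (gT s)) : IsImg ψ p160 :=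
  IsImg.comp (img_p159 ψ hψ) (img_p94 ψ hψ) (d := 10) (show 693 ≤ 2 ^ 10 by decide) comp160

theorem comp161 : allR (compEntry 693 p160 p81 p161) 10 0 = true := by decide +kernel

theorem img_p161 {G : Type*} [Group G] (ψ : G →* Equiv.Perm (Fin 693)) (hψ : ∀ s, s < 9 → IsImg ψ (gT s)) : IsImg ψ p161 :=
  IsImg.comp (img_p160 ψ hψ) (img_p81 ψ hψ) (d := 10) (show 693 ≤ 2 ^ 10 by decide) comp161

theorem comp162 : allR (compEntry 693 p161 p81 p162) 10 0 = true := by decide +kernel

theorem img_p162 {G : Type*} [Group G] (ψ : G →* Equiv.Perm (Fin 693)) (hψ : ∀ s, s < 9 → IsImg ψ (gT s)) : IsImg ψ p162 :=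
  IsImg.comp (img_p161 ψ hψ) (img_p81 ψ hψ) (d := 10) (show 693 ≤ 2 ^ 10 by decide) comp162

theorem comp163 : allR (compEntry 693 p141 p109 p163) 10 0 = true := by decide +kernel

theorem img_p163 {G : Type*} [Group G] (ψ : G →* Equiv.Perm (Fin 693)) (hψ : ∀ s, s < 9 → IsImg ψ (gT s)) : IsImg ψ p163 :=
  IsImg.comp (img_p141 ψ hψ) (img_p109 ψ hψ) (d := 10) (show 693 ≤ 2 ^ 10 by decide) comp163

theorem comp164 : allR (compEntry 693 p157 p163 p164) 10 0 = true := by decide +kernel

theorem img_p164 {G : Type*} [Group G] (ψ : G →* Equiv.Perm (Fin 693)) (hψ : ∀ s, s < 9 → IsImg ψ (gT s)) : IsImg ψ p164 :=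
  IsImg.comp (img_p157 ψ hψ) (img_p163 ψ hψ) (d := 10) (show 693 ≤ 2 ^ 10 by decide) comp164

theorem comp165 : allR (compEntry 693 p164 p73 p165) 10 0 = true := by decide +kernel

theorem img_p165 {G : Type*} [Group G] (ψ : G →* Equiv.Perm (Fin 693)) (hψ : ∀ s, s < 9 → IsImg ψ (gT s)) : IsImg ψ p165 :=
  IsImg.comp (img_p164 ψ hψ) (img_p73 ψ hψ) (d := 10) (show 693 ≤ 2 ^ 10 by decide) comp165

theorem comp166 : allR (compEntry 693 p165 p94 p166) 10 0 = true := by decide +kernel

theorem img_p166 {G : Type*} [Group G] (ψ : G →* Equiv.Perm (Fin 693)) (hψ : ∀ s, s < 9 → IsImg ψ (gT s)) : IsImg ψ p166 :=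
  IsImg.comp (img_p165 ψ hψ) (img_p94 ψ hψ) (d := 10) (show 693 ≤ 2 ^ 10 by decide) comp166

theorem comp167 : allR (compEntry 693 p166 p73 p167) 10 0 = true := by decide +kernel

theorem img_p167 {G : Type*} [Group G] (ψ : G →* Equiv.Perm (Fin 693)) (hψ : ∀ s, s < 9 → IsImg ψ (gT s)) : IsImg ψ p167 :=
  IsImg.comp (img_p166 ψ hψ) (img_p73 ψ hψ) (d := 10) (show 693 ≤ 2 ^ 10 by decide) comp167

theorem comp168 : allR (compEntry 693 p167 p81 p168) 10 0 = true := by decide +kernel

theorem img_p168 {G : Type*} [Group G] (ψ : G →* Equiv.Perm (Fin 693)) (hψ : ∀ s, s < 9 → IsImg ψ (gT s)) : IsImg ψ p168 :=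
  IsImg.comp (img_p167 ψ hψ) (img_p81 ψ hψ) (d := 10) (show 693 ≤ 2 ^ 10 by decide) comp168

theorem comp169 : allR (compEntry 693 p168 p81 p169) 10 0 = true := by decide +kernel

theorem img_p169 {G : Type*} [Group G] (ψ : G →* Equiv.Perm (Fin 693)) (hψ : ∀ s, s < 9 → IsImg ψ (gT s)) : IsImg ψ p169 :=
  IsImg.comp (img_p168 ψ hψ) (img_p81 ψ hψ) (d := 10) (show 693 ≤ 2 ^ 10 by decide) comp169

theorem comp170 : allR (compEntry 693 p169 p81 p170) 10 0 = true := by decide +kernel

theorem img_p170 {G : Type*} [Group G] (ψ : G →* Equiv.Perm (Fin 693)) (hψ : ∀ s, s < 9 → IsImg ψ (gT s)) : IsImg ψ p170 :=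
  IsImg.comp (img_p169 ψ hψ) (img_p81 ψ hψ) (d := 10) (show 693 ≤ 2 ^ 10 by decide) comp170

theorem comp171 : allR (compEntry 693 p115 p135 p171) 10 0 = true := by decide +kernel

theorem img_p171 {G : Type*} [Group G] (ψ : G →* Equiv.Perm (Fin 693)) (hψ : ∀ s, s < 9 → IsImg ψ (gT s)) : IsImg ψ p171 :=
  IsImg.comp (img_p115 ψ hψ) (img_p135 ψ hψ) (d := 10) (show 693 ≤ 2 ^ 10 by decide) comp171

theorem comp172 : allR (compEntry 693 p164 p171 p172) 10 0 = true := by decide +kernel

theorem img_p172 {G : Type*} [Group G] (ψ : G →* Equiv.Perm (Fin 693)) (hψ : ∀ s, s < 9 → IsImg ψ (gT s)) : IsImg ψ p172 :=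
  IsImg.comp (img_p164 ψ hψ) (img_p171 ψ hψ) (d := 10) (show 693 ≤ 2 ^ 10 by decide) comp172

theorem comp173 : allR (compEntry 693 p172 p73 p173) 10 0 = true := by decide +kernel

theorem img_p173 {G : Type*} [Group G] (ψ : G →* Equiv.Perm (Fin 693)) (hψ : ∀ s, s < 9 → IsImg ψ (gT s)) : IsImg ψ p173 :=
  IsImg.comp (img_p172 ψ hψ) (img_p73 ψ hψ) (d := 10) (show 693 ≤ 2 ^ 10 by decide) comp173

theorem comp174 : allR (compEntry 693 p173 p61 p174) 10 0 = true := by decide +kernel

theorem img_p174 {G : Type*} [Group G] (ψ : G →* Equiv.Perm (Fin 693)) (hψ : ∀ s, s < 9 → IsImg ψ (gT s)) : IsImg ψ p174 :=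
  IsImg.comp (img_p173 ψ hψ) (img_p61 ψ hψ) (d := 10) (show 693 ≤ 2 ^ 10 by decide) comp174

theorem comp175 : allR (compEntry 693 p174 p81 p175) 10 0 = true := by decide +kernel

theorem img_p175 {G : Type*} [Group G] (ψ : G →* Equiv.Perm (Fin 693)) (hψ : ∀ s, s < 9 → IsImg ψ (gT s)) : IsImg ψ p175 :=
  IsImg.comp (img_p174 ψ hψ) (img_p81 ψ hψ) (d := 10) (show 693 ≤ 2 ^ 10 by decide) comp175

theorem comp176 : allR (compEntry 693 p175 p94 p176) 10 0 = true := by decide +kernel

theorem img_p176 {G : Type*} [Group G] (ψ : G →* Equiv.Perm (Fin 693)) (hψ : ∀ s, s < 9 → IsImg ψ (gT s)) : IsImg ψ p176 :=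
  IsImg.comp (img_p175 ψ hψ) (img_p94 ψ hψ) (d := 10) (show 693 ≤ 2 ^ 10 by decide) comp176

theorem comp177 : allR (compEntry 693 p162 p176 p177) 10 0 = true := by decide +kernel

theorem img_p177 {G : Type*} [Group G] (ψ : G →* Equiv.Perm (Fin 693)) (hψ : ∀ s, s < 9 → IsImg ψ (gT s)) : IsImg ψ p177 :=
  IsImg.comp (img_p162 ψ hψ) (img_p176 ψ hψ) (d := 10) (show 693 ≤ 2 ^ 10 by decide) comp177

theorem comp179 : allR (compEntry 693 p176 p162 p179) 10 0 = true := by decide +kernel

theorem img_p179 {G : Type*} [Group G] (ψ : G →* Equiv.Perm (Fin 693)) (hψ : ∀ s, s < 9 → IsImg ψ (gT s)) : IsImg ψ p179 :=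
  IsImg.comp (img_p176 ψ hψ) (img_p162 ψ hψ) (d := 10) (show 693 ≤ 2 ^ 10 by decide) comp179

theorem comp181 : allR (compEntry 693 p179 p155 p181) 10 0 = true := by decide +kernel

theorem img_p181 {G : Type*} [Group G] (ψ : G →* Equiv.Perm (Fin 693)) (hψ : ∀ s, s < 9 → IsImg ψ (gT s)) : IsImg ψ p181 :=
  IsImg.comp (img_p179 ψ hψ) (img_p155 ψ hψ) (d := 10) (show 693 ≤ 2 ^ 10 by decide) comp181

theorem comp183 : allR (compEntry 693 p170 p177 p183) 10 0 = true := by decide +kernel

theorem img_p183 {G : Type*} [Group G] (ψ : G →* Equiv.Perm (Fin 693)) (hψ : ∀ s, s < 9 → IsImg ψ (gT s)) : IsImg ψ p183 :=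
  IsImg.comp (img_p170 ψ hψ) (img_p177 ψ hψ) (d := 10) (show 693 ≤ 2 ^ 10 by decide) comp183

theorem comp185 : allR (compEntry 693 p170 p155 p185) 10 0 = true := by decide +kernel

theorem img_p185 {G : Type*} [Group G] (ψ : G →* Equiv.Perm (Fin 693)) (hψ : ∀ s, s < 9 → IsImg ψ (gT s)) : IsImg ψ p185 :=
  IsImg.comp (img_p170 ψ hψ) (img_p155 ψ hψ) (d := 10) (show 693 ≤ 2 ^ 10 by decide) comp185

theorem comp187 : allR (compEntry 693 p176 p176 p187) 10 0 = true := by decide +kernel

theorem img_p187 {G : Type*} [Group G] (ψ : G →* Equiv.Perm (Fin 693)) (hψ : ∀ s, s < 9 → IsImg ψ (gT s)) : IsImg ψ p187 :=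
  IsImg.comp (img_p176 ψ hψ) (img_p176 ψ hψ) (d := 10) (show 693 ≤ 2 ^ 10 by decide) comp187

theorem comp189 : allR (compEntry 693 p187 p176 p189) 10 0 = true := by decide +kernel

theorem img_p189 {G : Type*} [Group G] (ψ : G →* Equiv.Perm (Fin 693)) (hψ : ∀ s, s < 9 → IsImg ψ (gT s)) : IsImg ψ p189 :=
  IsImg.comp (img_p187 ψ hψ) (img_p176 ψ hψ) (d := 10) (show 693 ≤ 2 ^ 10 by decide) comp189

theorem comp190 : allR (compEntry 693 p170 p183 p190) 10 0 = true := by decide +kernel

theorem img_p190 {G : Type*} [Group G] (ψ : G →* Equiv.Perm (Fin 693)) (hψ : ∀ s, s < 9 → IsImg ψ (gT s)) : IsImg ψ p190 :=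
  IsImg.comp (img_p170 ψ hψ) (img_p183 ψ hψ) (d := 10) (show 693 ≤ 2 ^ 10 by decide) comp190

theorem comp191 : allR (compEntry 693 p183 p190 p191) 10 0 = true := by decide +kernel

theorem img_p191 {G : Type*} [Group G] (ψ : G →* Equiv.Perm (Fin 693)) (hψ : ∀ s, s < 9 → IsImg ψ (gT s)) : IsImg ψ p191 :=
  IsImg.comp (img_p183 ψ hψ) (img_p190 ψ hψ) (d := 10) (show 693 ≤ 2 ^ 10 by decide) comp191

theorem comp192 : allR (compEntry 693 p185 p170 p192) 10 0 = true := by decide +kernel

theorem img_p192 {G : Type*} [Group G] (ψ : G →* Equiv.Perm (Fin 693)) (hψ : ∀ s, s < 9 → IsImg ψ (gT s)) : IsImg ψ p192 :=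
  IsImg.comp (img_p185 ψ hψ) (img_p170 ψ hψ) (d := 10) (show 693 ≤ 2 ^ 10 by decide) comp192

theorem comp193 : allR (compEntry 693 p191 p192 p193) 10 0 = true := by decide +kernel

theorem img_p193 {G : Type*} [Group G] (ψ : G →* Equiv.Perm (Fin 693)) (hψ : ∀ s, s < 9 → IsImg ψ (gT s)) : IsImg ψ p193 :=
  IsImg.comp (img_p191 ψ hψ) (img_p192 ψ hψ) (d := 10) (show 693 ≤ 2 ^ 10 by decide) comp193

theorem comp194 : allR (compEntry 693 p176 p170 p194) 10 0 = true := by decide +kernel

theorem img_p194 {G : Type*} [Group G] (ψ : G →* Equiv.Perm (Fin 693)) (hψ : ∀ s, s < 9 → IsImg ψ (gT s)) : IsImg ψ p194 :=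
  IsImg.comp (img_p176 ψ hψ) (img_p170 ψ hψ) (d := 10) (show 693 ≤ 2 ^ 10 by decide) comp194

theorem comp195 : allR (compEntry 693 p193 p194 p195) 10 0 = true := by decide +kernel

theorem img_p195 {G : Type*} [Group G] (ψ : G →* Equiv.Perm (Fin 693)) (hψ : ∀ s, s < 9 → IsImg ψ (gT s)) : IsImg ψ p195 :=
  IsImg.comp (img_p193 ψ hψ) (img_p194 ψ hψ) (d := 10) (show 693 ≤ 2 ^ 10 by decide) comp195

theorem comp196 : allR (compEntry 693 p185 p181 p196) 10 0 = true := by decide +kernel

theorem img_p196 {G : Type*} [Group G] (ψ : G →* Equiv.Perm (Fin 693)) (hψ : ∀ s, s < 9 → IsImg ψ (gT s)) : IsImg ψ p196 :=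
  IsImg.comp (img_p185 ψ hψ) (img_p181 ψ hψ) (d := 10) (show 693 ≤ 2 ^ 10 by decide) comp196

theorem comp197 : allR (compEntry 693 p195 p196 p197) 10 0 = true := by decide +kernel

theorem img_p197 {G : Type*} [Group G] (ψ : G →* Equiv.Perm (Fin 693)) (hψ : ∀ s, s < 9 → IsImg ψ (gT s)) : IsImg ψ p197 :=
  IsImg.comp (img_p195 ψ hψ) (img_p196 ψ hψ) (d := 10) (show 693 ≤ 2 ^ 10 by decide) comp197

theorem comp198 : allR (compEntry 693 p197 p192 p198) 10 0 = true := by decide +kernel

theorem img_p198 {G : Type*} [Group G] (ψ : G →* Equiv.Perm (Fin 693)) (hψ : ∀ s, s < 9 → IsImg ψ (gT s)) : IsImg ψ p198 :=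
  IsImg.comp (img_p197 ψ hψ) (img_p192 ψ hψ) (d := 10) (show 693 ≤ 2 ^ 10 by decide) comp198

theorem comp199 : allR (compEntry 693 p155 p192 p199) 10 0 = true := by decide +kernel

theorem img_p199 {G : Type*} [Group G] (ψ : G →* Equiv.Perm (Fin 693)) (hψ : ∀ s, s < 9 → IsImg ψ (gT s)) : IsImg ψ p199 :=
  IsImg.comp (img_p155 ψ hψ) (img_p192 ψ hψ) (d := 10) (show 693 ≤ 2 ^ 10 by decide) comp199

theorem comp200 : allR (compEntry 693 p198 p199 p200) 10 0 = true := by decide +kernel

theorem img_p200 {G : Type*} [Group G] (ψ : G →* Equiv.Perm (Fin 693)) (hψ : ∀ s, s < 9 → IsImg ψ (gT s)) : IsImg ψ p200 :=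
  IsImg.comp (img_p198 ψ hψ) (img_p199 ψ hψ) (d := 10) (show 693 ≤ 2 ^ 10 by decide) comp200

theorem comp201 : allR (compEntry 693 p190 p176 p201) 10 0 = true := by decide +kernel

theorem img_p201 {G : Type*} [Group G] (ψ : G →* Equiv.Perm (Fin 693)) (hψ : ∀ s, s < 9 → IsImg ψ (gT s)) : IsImg ψ p201 :=
  IsImg.comp (img_p190 ψ hψ) (img_p176 ψ hψ) (d := 10) (show 693 ≤ 2 ^ 10 by decide) comp201

theorem comp202 : allR (compEntry 693 p200 p201 p202) 10 0 = true := by decide +kernel

theorem img_p202 {G : Type*} [Group G] (ψ : G →* Equiv.Perm (Fin 693)) (hψ : ∀ s, s < 9 → IsImg ψ (gT s)) : IsImg ψ p202 :=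
  IsImg.comp (img_p200 ψ hψ) (img_p201 ψ hψ) (d := 10) (show 693 ≤ 2 ^ 10 by decide) comp202

theorem comp203 : allR (compEntry 693 p176 p155 p203) 10 0 = true := by decide +kernel

theorem img_p203 {G : Type*} [Group G] (ψ : G →* Equiv.Perm (Fin 693)) (hψ : ∀ s, s < 9 → IsImg ψ (gT s)) : IsImg ψ p203 :=
  IsImg.comp (img_p176 ψ hψ) (img_p155 ψ hψ) (d := 10) (show 693 ≤ 2 ^ 10 by decide) comp203

theorem comp204 : allR (compEntry 693 p202 p203 p204) 10 0 = true := by decide +kernel

theorem img_p204 {G : Type*} [Group G] (ψ : G →* Equiv.Perm (Fin 693)) (hψ : ∀ s, s < 9 → IsImg ψ (gT s)) : IsImg ψ p204 :=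
  IsImg.comp (img_p202 ψ hψ) (img_p203 ψ hψ) (d := 10) (show 693 ≤ 2 ^ 10 by decide) comp204

theorem comp205 : allR (compEntry 693 p196 p189 p205) 10 0 = true := by decide +kernel

theorem img_p205 {G : Type*} [Group G] (ψ : G →* Equiv.Perm (Fin 693)) (hψ : ∀ s, s < 9 → IsImg ψ (gT s)) : IsImg ψ p205 :=
  IsImg.comp (img_p196 ψ hψ) (img_p189 ψ hψ) (d := 10) (show 693 ≤ 2 ^ 10 by decide) comp205

theorem comp206 : allR (compEntry 693 p204 p205 p206) 10 0 = true := by decide +kernel

theorem img_p206 {G : Type*} [Group G] (ψ : G →* Equiv.Perm (Fin 693)) (hψ : ∀ s, s < 9 → IsImg ψ (gT s)) : IsImg ψ p206 :=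
  IsImg.comp (img_p204 ψ hψ) (img_p205 ψ hψ) (d := 10) (show 693 ≤ 2 ^ 10 by decide) comp206

theorem comp207 : allR (compEntry 693 p176 p192 p207) 10 0 = true := by decide +kernel

theorem img_p207 {G : Type*} [Group G] (ψ : G →* Equiv.Perm (Fin 693)) (hψ : ∀ s, s < 9 → IsImg ψ (gT s)) : IsImg ψ p207 :=
  IsImg.comp (img_p176 ψ hψ) (img_p192 ψ hψ) (d := 10) (show 693 ≤ 2 ^ 10 by decide) comp207

theorem comp208 : allR (compEntry 693 p206 p207 p208) 10 0 = true := by decide +kernel

theorem img_p208 {G : Type*} [Group G] (ψ : G →* Equiv.Perm (Fin 693)) (hψ : ∀ s, s < 9 → IsImg ψ (gT s)) : IsImg ψ p208 :=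
  IsImg.comp (img_p206 ψ hψ) (img_p207 ψ hψ) (d := 10) (show 693 ≤ 2 ^ 10 by decide) comp208

theorem comp209 : allR (compEntry 693 p201 p194 p209) 10 0 = true := by decide +kernel

theorem img_p209 {G : Type*} [Group G] (ψ : G →* Equiv.Perm (Fin 693)) (hψ : ∀ s, s < 9 → IsImg ψ (gT s)) : IsImg ψ p209 :=
  IsImg.comp (img_p201 ψ hψ) (img_p194 ψ hψ) (d := 10) (show 693 ≤ 2 ^ 10 by decide) comp209

theorem comp210 : allR (compEntry 693 p208 p209 p210) 10 0 = true := by decide +kernel

theorem img_p210 {G : Type*} [Group G] (ψ : G →* Equiv.Perm (Fin 693)) (hψ : ∀ s, s < 9 → IsImg ψ (gT s)) : IsImg ψ p210 :=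
  IsImg.comp (img_p208 ψ hψ) (img_p209 ψ hψ) (d := 10) (show 693 ≤ 2 ^ 10 by decide) comp210

theorem comp211 : allR (compEntry 693 p209 p201 p211) 10 0 = true := by decide +kernel

theorem img_p211 {G : Type*} [Group G] (ψ : G →* Equiv.Perm (Fin 693)) (hψ : ∀ s, s < 9 → IsImg ψ (gT s)) : IsImg ψ p211 :=
  IsImg.comp (img_p209 ψ hψ) (img_p201 ψ hψ) (d := 10) (show 693 ≤ 2 ^ 10 by decide) comp211

theorem comp212 : allR (compEntry 693 p210 p211 p212) 10 0 = true := by decide +kernel

theorem img_p212 {G : Type*} [Group G] (ψ : G →* Equiv.Perm (Fin 693)) (hψ : ∀ s, s < 9 → IsImg ψ (gT s)) : IsImg ψ p212 :=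
  IsImg.comp (img_p210 ψ hψ) (img_p211 ψ hψ) (d := 10) (show 693 ≤ 2 ^ 10 by decide) comp212

theorem comp213 : allR (compEntry 693 p176 p199 p213) 10 0 = true := by decide +kernel

theorem img_p213 {G : Type*} [Group G] (ψ : G →* Equiv.Perm (Fin 693)) (hψ : ∀ s, s < 9 → IsImg ψ (gT s)) : IsImg ψ p213 :=
  IsImg.comp (img_p176 ψ hψ) (img_p199 ψ hψ) (d := 10) (show 693 ≤ 2 ^ 10 by decide) comp213

theorem comp214 : allR (compEntry 693 p212 p213 p214) 10 0 = true := by decide +kernel

theorem img_p214 {G : Type*} [Group G] (ψ : G →* Equiv.Perm (Fin 693)) (hψ : ∀ s, s < 9 → IsImg ψ (gT s)) : IsImg ψ p214 :=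
  IsImg.comp (img_p212 ψ hψ) (img_p213 ψ hψ) (d := 10) (show 693 ≤ 2 ^ 10 by decide) comp214

theorem comp215 : allR (compEntry 693 p176 p209 p215) 10 0 = true := by decide +kernel

theorem img_p215 {G : Type*} [Group G] (ψ : G →* Equiv.Perm (Fin 693)) (hψ : ∀ s, s < 9 → IsImg ψ (gT s)) : IsImg ψ p215 :=
  IsImg.comp (img_p176 ψ hψ) (img_p209 ψ hψ) (d := 10) (show 693 ≤ 2 ^ 10 by decide) comp215

theorem comp216 : allR (compEntry 693 p214 p215 p216) 10 0 = true := by decide +kernel

theorem img_p216 {G : Type*} [Group G] (ψ : G →* Equiv.Perm (Fin 693)) (hψ : ∀ s, s < 9 → IsImg ψ (gT s)) : IsImg ψ p216 :=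
  IsImg.comp (img_p214 ψ hψ) (img_p215 ψ hψ) (d := 10) (show 693 ≤ 2 ^ 10 by decide) comp216

theorem comp217 : allR (compEntry 693 p215 p155 p217) 10 0 = true := by decide +kernel

theorem img_p217 {G : Type*} [Group G] (ψ : G →* Equiv.Perm (Fin 693)) (hψ : ∀ s, s < 9 → IsImg ψ (gT s)) : IsImg ψ p217 :=
  IsImg.comp (img_p215 ψ hψ) (img_p155 ψ hψ) (d := 10) (show 693 ≤ 2 ^ 10 by decide) comp217

theorem comp218 : allR (compEntry 693 p216 p217 p218) 10 0 = true := by decide +kernel

theorem img_p218 {G : Type*} [Group G] (ψ : G →* Equiv.Perm (Fin 693)) (hψ : ∀ s, s < 9 → IsImg ψ (gT s)) : IsImg ψ p218 :=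
  IsImg.comp (img_p216 ψ hψ) (img_p217 ψ hψ) (d := 10) (show 693 ≤ 2 ^ 10 by decide) comp218

theorem comp219 : allR (compEntry 693 p205 p185 p219) 10 0 = true := by decide +kernel

theorem img_p219 {G : Type*} [Group G] (ψ : G →* Equiv.Perm (Fin 693)) (hψ : ∀ s, s < 9 → IsImg ψ (gT s)) : IsImg ψ p219 :=
  IsImg.comp (img_p205 ψ hψ) (img_p185 ψ hψ) (d := 10) (show 693 ≤ 2 ^ 10 by decide) comp219

theorem comp220 : allR (compEntry 693 p218 p219 p220) 10 0 = true := by decide +kernel

theorem img_p220 {G : Type*} [Group G] (ψ : G →* Equiv.Perm (Fin 693)) (hψ : ∀ s, s < 9 → IsImg ψ (gT s)) : IsImg ψ p220 :=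
  IsImg.comp (img_p218 ψ hψ) (img_p219 ψ hψ) (d := 10) (show 693 ≤ 2 ^ 10 by decide) comp220

theorem comp221 : allR (compEntry 693 p207 p203 p221) 10 0 = true := by decide +kernel

theorem img_p221 {G : Type*} [Group G] (ψ : G →* Equiv.Perm (Fin 693)) (hψ : ∀ s, s < 9 → IsImg ψ (gT s)) : IsImg ψ p221 :=
  IsImg.comp (img_p207 ψ hψ) (img_p203 ψ hψ) (d := 10) (show 693 ≤ 2 ^ 10 by decide) comp221

theorem comp222 : allR (compEntry 693 p220 p221 p222) 10 0 = true := by decide +kernel

theorem img_p222 {G : Type*} [Group G] (ψ : G →* Equiv.Perm (Fin 693)) (hψ : ∀ s, s < 9 → IsImg ψ (gT s)) : IsImg ψ p222 :=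
  IsImg.comp (img_p220 ψ hψ) (img_p221 ψ hψ) (d := 10) (show 693 ≤ 2 ^ 10 by decide) comp222

theorem comp223 : allR (compEntry 693 p209 p219 p223) 10 0 = true := by decide +kernel

theorem img_p223 {G : Type*} [Group G] (ψ : G →* Equiv.Perm (Fin 693)) (hψ : ∀ s, s < 9 → IsImg ψ (gT s)) : IsImg ψ p223 :=
  IsImg.comp (img_p209 ψ hψ) (img_p219 ψ hψ) (d := 10) (show 693 ≤ 2 ^ 10 by decide) comp223

theorem comp224 : allR (compEntry 693 p222 p223 p224) 10 0 = true := by decide +kernel

theorem img_p224 {G : Type*} [Group G] (ψ : G →* Equiv.Perm (Fin 693)) (hψ : ∀ s, s < 9 → IsImg ψ (gT s)) : IsImg ψ p224 :=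
  IsImg.comp (img_p222 ψ hψ) (img_p223 ψ hψ) (d := 10) (show 693 ≤ 2 ^ 10 by decide) comp224

theorem comp225 : allR (compEntry 693 p213 p215 p225) 10 0 = true := by decide +kernel

theorem img_p225 {G : Type*} [Group G] (ψ : G →* Equiv.Perm (Fin 693)) (hψ : ∀ s, s < 9 → IsImg ψ (gT s)) : IsImg ψ p225 :=
  IsImg.comp (img_p213 ψ hψ) (img_p215 ψ hψ) (d := 10) (show 693 ≤ 2 ^ 10 by decide) comp225

theorem comp226 : allR (compEntry 693 p224 p225 p226) 10 0 = true := by decide +kernel

theorem img_p226 {G : Type*} [Group G] (ψ : G →* Equiv.Perm (Fin 693)) (hψ : ∀ s, s < 9 → IsImg ψ (gT s)) : IsImg ψ p226 :=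
  IsImg.comp (img_p224 ψ hψ) (img_p225 ψ hψ) (d := 10) (show 693 ≤ 2 ^ 10 by decide) comp226

theorem comp227 : allR (compEntry 693 p219 p203 p227) 10 0 = true := by decide +kernel

theorem img_p227 {G : Type*} [Group G] (ψ : G →* Equiv.Perm (Fin 693)) (hψ : ∀ s, s < 9 → IsImg ψ (gT s)) : IsImg ψ p227 :=
  IsImg.comp (img_p219 ψ hψ) (img_p203 ψ hψ) (d := 10) (show 693 ≤ 2 ^ 10 by decide) comp227

theorem comp228 : allR (compEntry 693 p226 p227 p228) 10 0 = true := by decide +kernel

theorem img_p228 {G : Type*} [Group G] (ψ : G →* Equiv.Perm (Fin 693)) (hψ : ∀ s, s < 9 → IsImg ψ (gT s)) : IsImg ψ p228 :=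
  IsImg.comp (img_p226 ψ hψ) (img_p227 ψ hψ) (d := 10) (show 693 ≤ 2 ^ 10 by decide) comp228

theorem comp229 : allR (compEntry 693 p213 p221 p229) 10 0 = true := by decide +kernel

theorem img_p229 {G : Type*} [Group G] (ψ : G →* Equiv.Perm (Fin 693)) (hψ : ∀ s, s < 9 → IsImg ψ (gT s)) : IsImg ψ p229 :=
  IsImg.comp (img_p213 ψ hψ) (img_p221 ψ hψ) (d := 10) (show 693 ≤ 2 ^ 10 by decide) comp229

theorem comp230 : allR (compEntry 693 p228 p229 p230) 10 0 = true := by decide +kernel

theorem img_p230 {G : Type*} [Group G] (ψ : G →* Equiv.Perm (Fin 693)) (hψ : ∀ s, s < 9 → IsImg ψ (gT s)) : IsImg ψ p230 :=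
  IsImg.comp (img_p228 ψ hψ) (img_p229 ψ hψ) (d := 10) (show 693 ≤ 2 ^ 10 by decide) comp230

theorem comp231 : allR (compEntry 693 p189 p221 p231) 10 0 = true := by decide +kernel

theorem img_p231 {G : Type*} [Group G] (ψ : G →* Equiv.Perm (Fin 693)) (hψ : ∀ s, s < 9 → IsImg ψ (gT s)) : IsImg ψ p231 :=
  IsImg.comp (img_p189 ψ hψ) (img_p221 ψ hψ) (d := 10) (show 693 ≤ 2 ^ 10 by decide) comp231

theorem comp232 : allR (compEntry 693 p230 p231 p232) 10 0 = true := by decide +kernel

theorem img_p232 {G : Type*} [Group G] (ψ : G →* Equiv.Perm (Fin 693)) (hψ : ∀ s, s < 9 → IsImg ψ (gT s)) : IsImg ψ p232 :=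
  IsImg.comp (img_p230 ψ hψ) (img_p231 ψ hψ) (d := 10) (show 693 ≤ 2 ^ 10 by decide) comp232

theorem comp233 : allR (compEntry 693 p205 p225 p233) 10 0 = true := by decide +kernel

theorem img_p233 {G : Type*} [Group G] (ψ : G →* Equiv.Perm (Fin 693)) (hψ : ∀ s, s < 9 → IsImg ψ (gT s)) : IsImg ψ p233 :=
  IsImg.comp (img_p205 ψ hψ) (img_p225 ψ hψ) (d := 10) (show 693 ≤ 2 ^ 10 by decide) comp233

theorem comp234 : allR (compEntry 693 p232 p233 p234) 10 0 = true := by decide +kernel

theorem img_p234 {G : Type*} [Group G] (ψ : G →* Equiv.Perm (Fin 693)) (hψ : ∀ s, s < 9 → IsImg ψ (gT s)) : IsImg ψ p234 :=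
  IsImg.comp (img_p232 ψ hψ) (img_p233 ψ hψ) (d := 10) (show 693 ≤ 2 ^ 10 by decide) comp234

theorem comp235 : allR (compEntry 693 p223 p233 p235) 10 0 = true := by decide +kernel

theorem img_p235 {G : Type*} [Group G] (ψ : G →* Equiv.Perm (Fin 693)) (hψ : ∀ s, s < 9 → IsImg ψ (gT s)) : IsImg ψ p235 :=
  IsImg.comp (img_p223 ψ hψ) (img_p233 ψ hψ) (d := 10) (show 693 ≤ 2 ^ 10 by decide) comp235

theorem comp236 : allR (compEntry 693 p234 p235 p236) 10 0 = true := by decide +kernel

theorem img_p236 {G : Type*} [Group G] (ψ : G →* Equiv.Perm (Fin 693)) (hψ : ∀ s, s < 9 → IsImg ψ (gT s)) : IsImg ψ p236 :=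
  IsImg.comp (img_p234 ψ hψ) (img_p235 ψ hψ) (d := 10) (show 693 ≤ 2 ^ 10 by decide) comp236

theorem comp237 : allR (compEntry 693 p236 p155 p237) 10 0 = true := by decide +kernel

theorem img_p237 {G : Type*} [Group G] (ψ : G →* Equiv.Perm (Fin 693)) (hψ : ∀ s, s < 9 → IsImg ψ (gT s)) : IsImg ψ p237 :=
  IsImg.comp (img_p236 ψ hψ) (img_p155 ψ hψ) (d := 10) (show 693 ≤ 2 ^ 10 by decide) comp237

theorem comp238 : allR (compEntry 693 p237 p176 p238) 10 0 = true := by decide +kernel

theorem img_p238 {G : Type*} [Group G] (ψ : G →* Equiv.Perm (Fin 693)) (hψ : ∀ s, s < 9 → IsImg ψ (gT s)) : IsImg ψ p238 :=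
  IsImg.comp (img_p237 ψ hψ) (img_p176 ψ hψ) (d := 10) (show 693 ≤ 2 ^ 10 by decide) comp238

theorem comp239 : allR (compEntry 693 p238 p176 p239) 10 0 = true := by decide +kernel

theorem img_p239 {G : Type*} [Group G] (ψ : G →* Equiv.Perm (Fin 693)) (hψ : ∀ s, s < 9 → IsImg ψ (gT s)) : IsImg ψ p239 :=
  IsImg.comp (img_p238 ψ hψ) (img_p176 ψ hψ) (d := 10) (show 693 ≤ 2 ^ 10 by decide) comp239

theorem comp240 : allR (compEntry 693 p205 p235 p240) 10 0 = true := by decide +kernel

theorem img_p240 {G : Type*} [Group G] (ψ : G →* Equiv.Perm (Fin 693)) (hψ : ∀ s, s < 9 → IsImg ψ (gT s)) : IsImg ψ p240 :=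
  IsImg.comp (img_p205 ψ hψ) (img_p235 ψ hψ) (d := 10) (show 693 ≤ 2 ^ 10 by decide) comp240

theorem comp241 : allR (compEntry 693 p236 p240 p241) 10 0 = true := by decide +kernel

theorem img_p241 {G : Type*} [Group G] (ψ : G →* Equiv.Perm (Fin 693)) (hψ : ∀ s, s < 9 → IsImg ψ (gT s)) : IsImg ψ p241 :=
  IsImg.comp (img_p236 ψ hψ) (img_p240 ψ hψ) (d := 10) (show 693 ≤ 2 ^ 10 by decide) comp241

theorem comp242 : allR (compEntry 693 p241 p170 p242) 10 0 = true := by decide +kernel

theorem img_p242 {G : Type*} [Group G] (ψ : G →* Equiv.Perm (Fin 693)) (hψ : ∀ s, s < 9 → IsImg ψ (gT s)) : IsImg ψ p242 :=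
  IsImg.comp (img_p241 ψ hψ) (img_p170 ψ hψ) (d := 10) (show 693 ≤ 2 ^ 10 by decide) comp242

theorem comp243 : allR (compEntry 693 p242 p155 p243) 10 0 = true := by decide +kernel

theorem img_p243 {G : Type*} [Group G] (ψ : G →* Equiv.Perm (Fin 693)) (hψ : ∀ s, s < 9 → IsImg ψ (gT s)) : IsImg ψ p243 :=
  IsImg.comp (img_p242 ψ hψ) (img_p155 ψ hψ) (d := 10) (show 693 ≤ 2 ^ 10 by decide) comp243

theorem comp244 : allR (compEntry 693 p243 p176 p244) 10 0 = true := by decide +kernel

theorem img_p244 {G : Type*} [Group G] (ψ : G →* Equiv.Perm (Fin 693)) (hψ : ∀ s, s < 9 → IsImg ψ (gT s)) : IsImg ψ p244 :=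
  IsImg.comp (img_p243 ψ hψ) (img_p176 ψ hψ) (d := 10) (show 693 ≤ 2 ^ 10 by decide) comp244

theorem comp245 : allR (compEntry 693 p229 p189 p245) 10 0 = true := by decide +kernel

theorem img_p245 {G : Type*} [Group G] (ψ : G →* Equiv.Perm (Fin 693)) (hψ : ∀ s, s < 9 → IsImg ψ (gT s)) : IsImg ψ p245 :=
  IsImg.comp (img_p229 ψ hψ) (img_p189 ψ hψ) (d := 10) (show 693 ≤ 2 ^ 10 by decide) comp245

theorem comp246 : allR (compEntry 693 p241 p245 p246) 10 0 = true := by decide +kernel

theorem img_p246 {G : Type*} [Group G] (ψ : G →* Equiv.Perm (Fin 693)) (hψ : ∀ s, s < 9 → IsImg ψ (gT s)) : IsImg ψ p246 :=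
  IsImg.comp (img_p241 ψ hψ) (img_p245 ψ hψ) (d := 10) (show 693 ≤ 2 ^ 10 by decide) comp246

theorem comp247 : allR (compEntry 693 p246 p176 p247) 10 0 = true := by decide +kernel

theorem img_p247 {G : Type*} [Group G] (ψ : G →* Equiv.Perm (Fin 693)) (hψ : ∀ s, s < 9 → IsImg ψ (gT s)) : IsImg ψ p247 :=
  IsImg.comp (img_p246 ψ hψ) (img_p176 ψ hψ) (d := 10) (show 693 ≤ 2 ^ 10 by decide) comp247

theorem comp248 : allR (compEntry 693 p247 p170 p248) 10 0 = true := by decide +kernel

theorem img_p248 {G : Type*} [Group G] (ψ : G →* Equiv.Perm (Fin 693)) (hψ : ∀ s, s < 9 → IsImg ψ (gT s)) : IsImg ψ p248 :=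
  IsImg.comp (img_p247 ψ hψ) (img_p170 ψ hψ) (d := 10) (show 693 ≤ 2 ^ 10 by decide) comp248

theorem comp249 : allR (compEntry 693 p248 p162 p249) 10 0 = true := by decide +kernel

theorem img_p249 {G : Type*} [Group G] (ψ : G →* Equiv.Perm (Fin 693)) (hψ : ∀ s, s < 9 → IsImg ψ (gT s)) : IsImg ψ p249 :=
  IsImg.comp (img_p248 ψ hψ) (img_p162 ψ hψ) (d := 10) (show 693 ≤ 2 ^ 10 by decide) comp249

theorem comp250 : allR (compEntry 693 p217 p219 p250) 10 0 = true := by decide +kernel

theorem img_p250 {G : Type*} [Group G] (ψ : G →* Equiv.Perm (Fin 693)) (hψ : ∀ s, s < 9 → IsImg ψ (gT s)) : IsImg ψ p250 :=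
  IsImg.comp (img_p217 ψ hψ) (img_p219 ψ hψ) (d := 10) (show 693 ≤ 2 ^ 10 by decide) comp250

theorem comp251 : allR (compEntry 693 p246 p250 p251) 10 0 = true := by decide +kernel

theorem img_p251 {G : Type*} [Group G] (ψ : G →* Equiv.Perm (Fin 693)) (hψ : ∀ s, s < 9 → IsImg ψ (gT s)) : IsImg ψ p251 :=
  IsImg.comp (img_p246 ψ hψ) (img_p250 ψ hψ) (d := 10) (show 693 ≤ 2 ^ 10 by decide) comp251

theorem comp252 : allR (compEntry 693 p251 p170 p252) 10 0 = true := by decide +kernel

theorem img_p252 {G : Type*} [Group G] (ψ : G →* Equiv.Perm (Fin 693)) (hψ : ∀ s, s < 9 → IsImg ψ (gT s)) : IsImg ψ p252 :=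
  IsImg.comp (img_p251 ψ hψ) (img_p170 ψ hψ) (d := 10) (show 693 ≤ 2 ^ 10 by decide) comp252

theorem comp253 : allR (compEntry 693 p252 p176 p253) 10 0 = true := by decide +kernel

theorem img_p253 {G : Type*} [Group G] (ψ : G →* Equiv.Perm (Fin 693)) (hψ : ∀ s, s < 9 → IsImg ψ (gT s)) : IsImg ψ p253 :=
  IsImg.comp (img_p252 ψ hψ) (img_p176 ψ hψ) (d := 10) (show 693 ≤ 2 ^ 10 by decide) comp253

theorem comp254 : allR (compEntry 693 p244 p253 p254) 10 0 = true := by decide +kernel

theorem img_p254 {G : Type*} [Group G] (ψ : G →* Equiv.Perm (Fin 693)) (hψ : ∀ s, s < 9 → IsImg ψ (gT s)) : IsImg ψ p254 :=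
  IsImg.comp (img_p244 ψ hψ) (img_p253 ψ hψ) (d := 10) (show 693 ≤ 2 ^ 10 by decide) comp254

theorem comp255 : allR (compEntry 693 p239 p254 p255) 10 0 = true := by decide +kernel

theorem img_p255 {G : Type*} [Group G] (ψ : G →* Equiv.Perm (Fin 693)) (hψ : ∀ s, s < 9 → IsImg ψ (gT s)) : IsImg ψ p255 :=
  IsImg.comp (img_p239 ψ hψ) (img_p254 ψ hψ) (d := 10) (show 693 ≤ 2 ^ 10 by decide) comp255

theorem comp256 : allR (compEntry 693 p239 p253 p256) 10 0 = true := by decide +kernel

theorem img_p256 {G : Type*} [Group G] (ψ : G →* Equiv.Perm (Fin 693)) (hψ : ∀ s, s < 9 → IsImg ψ (gT s)) : IsImg ψ p256 :=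
  IsImg.comp (img_p239 ψ hψ) (img_p253 ψ hψ) (d := 10) (show 693 ≤ 2 ^ 10 by decide) comp256

theorem comp257 : allR (compEntry 693 p255 p256 p257) 10 0 = true := by decide +kernel

theorem img_p257 {G : Type*} [Group G] (ψ : G →* Equiv.Perm (Fin 693)) (hψ : ∀ s, s < 9 → IsImg ψ (gT s)) : IsImg ψ p257 :=
  IsImg.comp (img_p255 ψ hψ) (img_p256 ψ hψ) (d := 10) (show 693 ≤ 2 ^ 10 by decide) comp257

theorem comp258 : allR (compEntry 693 p253 p244 p258) 10 0 = true := by decide +kernel

theorem img_p258 {G : Type*} [Group G] (ψ : G →* Equiv.Perm (Fin 693)) (hψ : ∀ s, s < 9 → IsImg ψ (gT s)) : IsImg ψ p258 :=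
  IsImg.comp (img_p253 ψ hψ) (img_p244 ψ hψ) (d := 10) (show 693 ≤ 2 ^ 10 by decide) comp258

theorem comp259 : allR (compEntry 693 p257 p258 p259) 10 0 = true := by decide +kernel

theorem img_p259 {G : Type*} [Group G] (ψ : G →* Equiv.Perm (Fin 693)) (hψ : ∀ s, s < 9 → IsImg ψ (gT s)) : IsImg ψ p259 :=
  IsImg.comp (img_p257 ψ hψ) (img_p258 ψ hψ) (d := 10) (show 693 ≤ 2 ^ 10 by decide) comp259

theorem comp260 : allR (compEntry 693 p258 p256 p260) 10 0 = true := by decide +kernel

theorem img_p260 {G : Type*} [Group G] (ψ : G →* Equiv.Perm (Fin 693)) (hψ : ∀ s, s < 9 → IsImg ψ (gT s)) : IsImg ψ p260 :=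
  IsImg.comp (img_p258 ψ hψ) (img_p256 ψ hψ) (d := 10) (show 693 ≤ 2 ^ 10 by decide) comp260

theorem comp262 : allR (compEntry 693 p249 p254 p262) 10 0 = true := by decide +kernel

theorem img_p262 {G : Type*} [Group G] (ψ : G →* Equiv.Perm (Fin 693)) (hψ : ∀ s, s < 9 → IsImg ψ (gT s)) : IsImg ψ p262 :=
  IsImg.comp (img_p249 ψ hψ) (img_p254 ψ hψ) (d := 10) (show 693 ≤ 2 ^ 10 by decide) comp262

theorem comp264 : allR (compEntry 693 p239 p249 p264) 10 0 = true := by decide +kernel

theorem img_p264 {G : Type*} [Group G] (ψ : G →* Equiv.Perm (Fin 693)) (hψ : ∀ s, s < 9 → IsImg ψ (gT s)) : IsImg ψ p264 :=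
  IsImg.comp (img_p239 ψ hψ) (img_p249 ψ hψ) (d := 10) (show 693 ≤ 2 ^ 10 by decide) comp264

theorem comp266 : allR (compEntry 693 p260 p239 p266) 10 0 = true := by decide +kernel

theorem img_p266 {G : Type*} [Group G] (ψ : G →* Equiv.Perm (Fin 693)) (hψ : ∀ s, s < 9 → IsImg ψ (gT s)) : IsImg ψ p266 :=
  IsImg.comp (img_p260 ψ hψ) (img_p239 ψ hψ) (d := 10) (show 693 ≤ 2 ^ 10 by decide) comp266

theorem comp268 : allR (compEntry 693 p253 p264 p268) 10 0 = true := by decide +kernel

theorem img_p268 {G : Type*} [Group G] (ψ : G →* Equiv.Perm (Fin 693)) (hψ : ∀ s, s < 9 → IsImg ψ (gT s)) : IsImg ψ p268 :=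
  IsImg.comp (img_p253 ψ hψ) (img_p264 ψ hψ) (d := 10) (show 693 ≤ 2 ^ 10 by decide) comp268

theorem comp271 : allR (compEntry 693 p264 p258 p271) 10 0 = true := by decide +kernel

theorem img_p271 {G : Type*} [Group G] (ψ : G →* Equiv.Perm (Fin 693)) (hψ : ∀ s, s < 9 → IsImg ψ (gT s)) : IsImg ψ p271 :=
  IsImg.comp (img_p264 ψ hψ) (img_p258 ψ hψ) (d := 10) (show 693 ≤ 2 ^ 10 by decide) comp271

theorem comp273 : allR (compEntry 693 p258 p254 p273) 10 0 = true := by decide +kernel

theorem img_p273 {G : Type*} [Group G] (ψ : G →* Equiv.Perm (Fin 693)) (hψ : ∀ s, s < 9 → IsImg ψ (gT s)) : IsImg ψ p273 :=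
  IsImg.comp (img_p258 ψ hψ) (img_p254 ψ hψ) (d := 10) (show 693 ≤ 2 ^ 10 by decide) comp273

theorem comp276 : allR (compEntry 693 p273 p253 p276) 10 0 = true := by decide +kernel

theorem img_p276 {G : Type*} [Group G] (ψ : G →* Equiv.Perm (Fin 693)) (hψ : ∀ s, s < 9 → IsImg ψ (gT s)) : IsImg ψ p276 :=
  IsImg.comp (img_p273 ψ hψ) (img_p253 ψ hψ) (d := 10) (show 693 ≤ 2 ^ 10 by decide) comp276

theorem comp278 : allR (compEntry 693 p249 p258 p278) 10 0 = true := by decide +kernel

theorem img_p278 {G : Type*} [Group G] (ψ : G →* Equiv.Perm (Fin 693)) (hψ : ∀ s, s < 9 → IsImg ψ (gT s)) : IsImg ψ p278 :=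
  IsImg.comp (img_p249 ψ hψ) (img_p258 ψ hψ) (d := 10) (show 693 ≤ 2 ^ 10 by decide) comp278

theorem comp280 : allR (compEntry 693 p244 p264 p280) 10 0 = true := by decide +kernel

theorem img_p280 {G : Type*} [Group G] (ψ : G →* Equiv.Perm (Fin 693)) (hψ : ∀ s, s < 9 → IsImg ψ (gT s)) : IsImg ψ p280 :=
  IsImg.comp (img_p244 ψ hψ) (img_p264 ψ hψ) (d := 10) (show 693 ≤ 2 ^ 10 by decide) comp280

theorem comp282 : allR (compEntry 693 p273 p268 p282) 10 0 = true := by decide +kernel

theorem img_p282 {G : Type*} [Group G] (ψ : G →* Equiv.Perm (Fin 693)) (hψ : ∀ s, s < 9 → IsImg ψ (gT s)) : IsImg ψ p282 :=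
  IsImg.comp (img_p273 ψ hψ) (img_p268 ψ hψ) (d := 10) (show 693 ≤ 2 ^ 10 by decide) comp282

theorem comp284 : allR (compEntry 693 p271 p249 p284) 10 0 = true := by decide +kernel

theorem img_p284 {G : Type*} [Group G] (ψ : G →* Equiv.Perm (Fin 693)) (hψ : ∀ s, s < 9 → IsImg ψ (gT s)) : IsImg ψ p284 :=
  IsImg.comp (img_p271 ψ hψ) (img_p249 ψ hψ) (d := 10) (show 693 ≤ 2 ^ 10 by decide) comp284

theorem comp288 : allR (compEntry 693 p266 p249 p288) 10 0 = true := by decide +kernel

theorem img_p288 {G : Type*} [Group G] (ψ : G →* Equiv.Perm (Fin 693)) (hψ : ∀ s, s < 9 → IsImg ψ (gT s)) : IsImg ψ p288 :=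
  IsImg.comp (img_p266 ψ hψ) (img_p249 ψ hψ) (d := 10) (show 693 ≤ 2 ^ 10 by decide) comp288

theorem comp290 : allR (compEntry 693 p288 p280 p290) 10 0 = true := by decide +kernel

theorem img_p290 {G : Type*} [Group G] (ψ : G →* Equiv.Perm (Fin 693)) (hψ : ∀ s, s < 9 → IsImg ψ (gT s)) : IsImg ψ p290 :=
  IsImg.comp (img_p288 ψ hψ) (img_p280 ψ hψ) (d := 10) (show 693 ≤ 2 ^ 10 by decide) comp290

theorem comp294 : allR (compEntry 693 p282 p290 p294) 10 0 = true := by decide +kernel

theorem img_p294 {G : Type*} [Group G] (ψ : G →* Equiv.Perm (Fin 693)) (hψ : ∀ s, s < 9 → IsImg ψ (gT s)) : IsImg ψ p294 :=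
  IsImg.comp (img_p282 ψ hψ) (img_p290 ψ hψ) (d := 10) (show 693 ≤ 2 ^ 10 by decide) comp294

theorem comp298 : allR (compEntry 693 p249 p294 p298) 10 0 = true := by decide +kernel

theorem img_p298 {G : Type*} [Group G] (ψ : G →* Equiv.Perm (Fin 693)) (hψ : ∀ s, s < 9 → IsImg ψ (gT s)) : IsImg ψ p298 :=
  IsImg.comp (img_p249 ψ hψ) (img_p294 ψ hψ) (d := 10) (show 693 ≤ 2 ^ 10 by decide) comp298

theorem comp299 : allR (compEntry 693 p259 p298 p299) 10 0 = true := by decide +kernel

theorem img_p299 {G : Type*} [Group G] (ψ : G →* Equiv.Perm (Fin 693)) (hψ : ∀ s, s < 9 → IsImg ψ (gT s)) : IsImg ψ p299 :=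
  IsImg.comp (img_p259 ψ hψ) (img_p298 ψ hψ) (d := 10) (show 693 ≤ 2 ^ 10 by decide) comp299

theorem comp300 : allR (compEntry 693 p299 p244 p300) 10 0 = true := by decide +kernel

theorem img_p300 {G : Type*} [Group G] (ψ : G →* Equiv.Perm (Fin 693)) (hψ : ∀ s, s < 9 → IsImg ψ (gT s)) : IsImg ψ p300 :=
  IsImg.comp (img_p299 ψ hψ) (img_p244 ψ hψ) (d := 10) (show 693 ≤ 2 ^ 10 by decide) comp300

theorem comp301 : allR (compEntry 693 p276 p262 p301) 10 0 = true := by decide +kernel

theorem img_p301 {G : Type*} [Group G] (ψ : G →* Equiv.Perm (Fin 693)) (hψ : ∀ s, s < 9 → IsImg ψ (gT s)) : IsImg ψ p301 :=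
  IsImg.comp (img_p276 ψ hψ) (img_p262 ψ hψ) (d := 10) (show 693 ≤ 2 ^ 10 by decide) comp301

theorem comp302 : allR (compEntry 693 p284 p262 p302) 10 0 = true := by decide +kernel

theorem img_p302 {G : Type*} [Group G] (ψ : G →* Equiv.Perm (Fin 693)) (hψ : ∀ s, s < 9 → IsImg ψ (gT s)) : IsImg ψ p302 :=
  IsImg.comp (img_p284 ψ hψ) (img_p262 ψ hψ) (d := 10) (show 693 ≤ 2 ^ 10 by decide) comp302

theorem comp303 : allR (compEntry 693 p299 p302 p303) 10 0 = true := by decide +kernel

theorem img_p303 {G : Type*} [Group G] (ψ : G →* Equiv.Perm (Fin 693)) (hψ : ∀ s, s < 9 → IsImg ψ (gT s)) : IsImg ψ p303 :=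
  IsImg.comp (img_p299 ψ hψ) (img_p302 ψ hψ) (d := 10) (show 693 ≤ 2 ^ 10 by decide) comp303

theorem comp304 : allR (compEntry 693 p294 p301 p304) 10 0 = true := by decide +kernel

theorem img_p304 {G : Type*} [Group G] (ψ : G →* Equiv.Perm (Fin 693)) (hψ : ∀ s, s < 9 → IsImg ψ (gT s)) : IsImg ψ p304 :=
  IsImg.comp (img_p294 ψ hψ) (img_p301 ψ hψ) (d := 10) (show 693 ≤ 2 ^ 10 by decide) comp304

theorem comp305 : allR (compEntry 693 p303 p304 p305) 10 0 = true := by decide +kernel

theorem img_p305 {G : Type*} [Group G] (ψ : G →* Equiv.Perm (Fin 693)) (hψ : ∀ s, s < 9 → IsImg ψ (gT s)) : IsImg ψ p305 :=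
  IsImg.comp (img_p303 ψ hψ) (img_p304 ψ hψ) (d := 10) (show 693 ≤ 2 ^ 10 by decide) comp305

theorem comp306 : allR (compEntry 693 p305 p273 p306) 10 0 = true := by decide +kernel

theorem img_p306 {G : Type*} [Group G] (ψ : G →* Equiv.Perm (Fin 693)) (hψ : ∀ s, s < 9 → IsImg ψ (gT s)) : IsImg ψ p306 :=
  IsImg.comp (img_p305 ψ hψ) (img_p273 ψ hψ) (d := 10) (show 693 ≤ 2 ^ 10 by decide) comp306

theorem comp307 : allR (compEntry 693 p306 p239 p307) 10 0 = true := by decide +kernel

theorem img_p307 {G : Type*} [Group G] (ψ : G →* Equiv.Perm (Fin 693)) (hψ : ∀ s, s < 9 → IsImg ψ (gT s)) : IsImg ψ p307 :=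
  IsImg.comp (img_p306 ψ hψ) (img_p239 ψ hψ) (d := 10) (show 693 ≤ 2 ^ 10 by decide) comp307

theorem comp308 : allR (compEntry 693 p278 p294 p308) 10 0 = true := by decide +kernel

theorem img_p308 {G : Type*} [Group G] (ψ : G →* Equiv.Perm (Fin 693)) (hψ : ∀ s, s < 9 → IsImg ψ (gT s)) : IsImg ψ p308 :=
  IsImg.comp (img_p278 ψ hψ) (img_p294 ψ hψ) (d := 10) (show 693 ≤ 2 ^ 10 by decide) comp308

theorem comp309 : allR (compEntry 693 p306 p308 p309) 10 0 = true := by decide +kernel

theorem img_p309 {G : Type*} [Group G] (ψ : G →* Equiv.Perm (Fin 693)) (hψ : ∀ s, s < 9 → IsImg ψ (gT s)) : IsImg ψ p309 :=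
  IsImg.comp (img_p306 ψ hψ) (img_p308 ψ hψ) (d := 10) (show 693 ≤ 2 ^ 10 by decide) comp309

theorem comp310 : allR (compEntry 693 p309 p249 p310) 10 0 = true := by decide +kernel

theorem img_p310 {G : Type*} [Group G] (ψ : G →* Equiv.Perm (Fin 693)) (hψ : ∀ s, s < 9 → IsImg ψ (gT s)) : IsImg ψ p310 :=
  IsImg.comp (img_p309 ψ hψ) (img_p249 ψ hψ) (d := 10) (show 693 ≤ 2 ^ 10 by decide) comp310

theorem comp311 : allR (compEntry 693 p288 p298 p311) 10 0 = true := by decide +kernel

theorem img_p311 {G : Type*} [Group G] (ψ : G →* Equiv.Perm (Fin 693)) (hψ : ∀ s, s < 9 → IsImg ψ (gT s)) : IsImg ψ p311 :=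
  IsImg.comp (img_p288 ψ hψ) (img_p298 ψ hψ) (d := 10) (show 693 ≤ 2 ^ 10 by decide) comp311

theorem comp312 : allR (compEntry 693 p309 p311 p312) 10 0 = true := by decide +kernel

theorem img_p312 {G : Type*} [Group G] (ψ : G →* Equiv.Perm (Fin 693)) (hψ : ∀ s, s < 9 → IsImg ψ (gT s)) : IsImg ψ p312 :=
  IsImg.comp (img_p309 ψ hψ) (img_p311 ψ hψ) (d := 10) (show 693 ≤ 2 ^ 10 by decide) comp312

theorem comp314 : allR (compEntry 693 p288 p244 p314) 10 0 = true := by decide +kernel

theorem img_p314 {G : Type*} [Group G] (ψ : G →* Equiv.Perm (Fin 693)) (hψ : ∀ s, s < 9 → IsImg ψ (gT s)) : IsImg ψ p314 :=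
  IsImg.comp (img_p288 ψ hψ) (img_p244 ψ hψ) (d := 10) (show 693 ≤ 2 ^ 10 by decide) comp314

theorem comp315 : allR (compEntry 693 p312 p314 p315) 10 0 = true := by decide +kernel

theorem img_p315 {G : Type*} [Group G] (ψ : G →* Equiv.Perm (Fin 693)) (hψ : ∀ s, s < 9 → IsImg ψ (gT s)) : IsImg ψ p315 :=
  IsImg.comp (img_p312 ψ hψ) (img_p314 ψ hψ) (d := 10) (show 693 ≤ 2 ^ 10 by decide) comp315

theorem comp317 : allR (compEntry 693 p311 p282 p317) 10 0 = true := by decide +kernel

theorem img_p317 {G : Type*} [Group G] (ψ : G →* Equiv.Perm (Fin 693)) (hψ : ∀ s, s < 9 → IsImg ψ (gT s)) : IsImg ψ p317 :=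
  IsImg.comp (img_p311 ψ hψ) (img_p282 ψ hψ) (d := 10) (show 693 ≤ 2 ^ 10 by decide) comp317

theorem comp318 : allR (compEntry 693 p315 p317 p318) 10 0 = true := by decide +kernel

theorem img_p318 {G : Type*} [Group G] (ψ : G →* Equiv.Perm (Fin 693)) (hψ : ∀ s, s < 9 → IsImg ψ (gT s)) : IsImg ψ p318 :=
  IsImg.comp (img_p315 ψ hψ) (img_p317 ψ hψ) (d := 10) (show 693 ≤ 2 ^ 10 by decide) comp318

theorem comp319 : allR (compEntry 693 p318 p244 p319) 10 0 = true := by decide +kernel

theorem img_p319 {G : Type*} [Group G] (ψ : G →* Equiv.Perm (Fin 693)) (hψ : ∀ s, s < 9 → IsImg ψ (gT s)) : IsImg ψ p319 :=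
  IsImg.comp (img_p318 ψ hψ) (img_p244 ψ hψ) (d := 10) (show 693 ≤ 2 ^ 10 by decide) comp319

theorem comp321 : allR (compEntry 693 p317 p278 p321) 10 0 = true := by decide +kernel

theorem img_p321 {G : Type*} [Group G] (ψ : G →* Equiv.Perm (Fin 693)) (hψ : ∀ s, s < 9 → IsImg ψ (gT s)) : IsImg ψ p321 :=
  IsImg.comp (img_p317 ψ hψ) (img_p278 ψ hψ) (d := 10) (show 693 ≤ 2 ^ 10 by decide) comp321

theorem comp322 : allR (compEntry 693 p318 p321 p322) 10 0 = true := by decide +kernel

theorem img_p322 {G : Type*} [Group G] (ψ : G →* Equiv.Perm (Fin 693)) (hψ : ∀ s, s < 9 → IsImg ψ (gT s)) : IsImg ψ p322 :=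
  IsImg.comp (img_p318 ψ hψ) (img_p321 ψ hψ) (d := 10) (show 693 ≤ 2 ^ 10 by decide) comp322

theorem comp329 : allR (compEntry 693 p319 p322 p329) 10 0 = true := by decide +kernel

theorem img_p329 {G : Type*} [Group G] (ψ : G →* Equiv.Perm (Fin 693)) (hψ : ∀ s, s < 9 → IsImg ψ (gT s)) : IsImg ψ p329 :=
  IsImg.comp (img_p319 ψ hψ) (img_p322 ψ hψ) (d := 10) (show 693 ≤ 2 ^ 10 by decide) comp329

theorem comp330 : allR (compEntry 693 p329 p253 p330) 10 0 = true := by decide +kernel

theorem img_p330 {G : Type*} [Group G] (ψ : G →* Equiv.Perm (Fin 693)) (hψ : ∀ s, s < 9 → IsImg ψ (gT s)) : IsImg ψ p330 :=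
  IsImg.comp (img_p329 ψ hψ) (img_p253 ψ hψ) (d := 10) (show 693 ≤ 2 ^ 10 by decide) comp330

theorem comp331 : allR (compEntry 693 p330 p239 p331) 10 0 = true := by decide +kernel

theorem img_p331 {G : Type*} [Group G] (ψ : G →* Equiv.Perm (Fin 693)) (hψ : ∀ s, s < 9 → IsImg ψ (gT s)) : IsImg ψ p331 :=
  IsImg.comp (img_p330 ψ hψ) (img_p239 ψ hψ) (d := 10) (show 693 ≤ 2 ^ 10 by decide) comp331

/-- Strong elements of level 0. -/
noncomputable def sg0 (x : ℕ) : ℕ := (Bool.rec (motive := fun _ => ℕ) (Bool.rec (motive := fun _ => ℕ) (Bool.rec (motive := fun _ => ℕ) p1 p2 (Nat.ble 1 x)) (Bool.rec (motive := fun _ => ℕ) p3 p4 (Nat.ble 3 x)) (Nat.ble 2 x)) (Bool.rec (motive := fun _ => ℕ) (Bool.rec (motive := fun _ => ℕ) p5 p6 (Nat.ble 5 x)) (Bool.rec (motive := fun _ => ℕ) p7 p8 (Nat.ble 7 x)) (Nat.ble 6 x)) (Nat.ble 4 x))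

def st0 : ℕ := (Nat.lor (Nat.lor 0x19f07000002460300000279040000015703000001c502000001c50000000293070000029301000001af07000001af0500000060010000010507000001050500000241060000024101000001f80500000008060000000804000000080200000261000000021401000002580700000258050000019d07000000a605000000a603000000f605000000f6040000015503000000c6040000012d030000016002000000900200000235010000000706000000210400000021010000021e010000006d060000006d040000006d0200000052060000005203000001eb07000001eb010000015b020000015b0000000296070000029601000001b207000001b20500000122060000005d01000001030700000103050000023e06000001fc050000000506000000050400000005020000025e050000016e0600000051060000005103000001f40700000158060000029c070000029c050000013f0600000129030000027b040000027b0000000132040000020200000001ac050000002506000000250400000025020000025101000001c107000001c105000001c006000000d8050000027106000002710200000015060000001503000001db0100000288050000019c0600000163060000012c03000000f905000000f904000000f9000000012f040000012f01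00000204040000015d020000015d000000008201000001a805000000270600000027040000002702000002740500000034060000003403000001d10700000187060000018703000002630700000263050000025301000001c407000001c405000001bd06000001bd01000000d5050000026e060000026e02000000170600000017030000018c060000018c03000002680700000268050000017c070000017c060000017c030000017b040000017b010000020f04000001620400000162020000028101000000f70500000002060000000203000001fb050000020e060000020e02000002ae06000002ae030000014207000002a10500000149060000014903000001520600000152030000001e070000001e03000001790400000179010000015f040000015f02000001c70300000224070000027f01000000fa05000000010600000001030000015306000002970700000297050000019a070000019a06000001fd050000020b060000020b02000002b206000002b203000001460700000196070000019606000001960200000195040000019502000001fe03000001aa070000014b030000022b050000025606000001a207000001cb06000001cb03000001170700000117060000016c0600000024070000002c070000002c04000001930400000193020000014d030000028607000002860500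0002290500000252060000019e07000001800700000180060000018002000001c906000001c9030000011a070000011a060000011a0100000165030000022e070000022e050000015e07000001f706000000f807000000f8060000009f070000009f050000001a070000001a040000001a02000001670300000161070000014006000001f906000000f507000000f506000000f501000000a207000000a2050000012e070000011d06000000d1060000008007000000800500000080040000000f030000013107000000cf06000000cf010000007d070000007d050000007d04000000b306000000b301000000590500000059030000005901000000b106000000570500000057030000003b050000003b020000003905000000390200000039000000000001 (Nat.shiftLeft 0x2490700000249030000023a020000020c060000027703000000540700000097070000000c030000028a070000028a05000000e906000000630500000063020000010d060000010d010000006f0500000207060000010c07000000e307000000e302000002a0060000003a070000003a02000000b0070000005a070000026505000000e40600000041060000004105000000410300000069050000006904000002ad05000002ad000000002f060000002f050000002f040000002f000000005607000000b6060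00000b604000000b60100000169020000021a040000021a010000026206000002620400000262020000018e060000018e03000001350700000186070000018602000001d906000002670300000087070000008701000000fc05000000cc070000017e060000016b0700000133070000000903000001840700000184040000017f03000001e607000001e603000001b90200000210040000021002000002500600000250030000023707000002370200000237000000003607000000940700000094030000006b070000006b020000000602000000b20200000299050000011006000000710600000071050000007103000000950500000095040000027d06000000e007000000e002000000e0000000003c070000003c01000000ce07000000d207000000470600000047030000006c060000006c050000006c040000006c000000010a010000003e060000003e040000003e01000000e606000000e604000000e602000001250300000200040000020002000002b006000002b0030000018307000001830200000183000000001d070000020a05000000290600000029030000005c050000005c040000009d07000000ff07000000ff0500000112050000011202000000ae07000000ae02000001360700000136040000018d030000017d070000017d03000001990200000118040000007406000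0007403000001b607000001b602000001b600000001fa03000001ae07000001ae010000006503000000680700000068020000006800000000490100000240010000020d050000002b060000002b030000009806000000980500000098040000009800000000f300000001c807000001c8010000007201000000b407000000b40500000089060000009206000000920400000092010000008a05000000c8020000006e060000006e040000006e02000000ab06000000ab0300000141070000014100000001d0030000022807000002280100000243030000011f070000021600000000e803000002450700000245010000008d070000008d01000000c305000001bc07000001bc0500000020060000000e060000000e040000000e010000029400000001f607000001f601000001a306000001150700000115050000011502000000a905000000a9030000012107000000dd0300000147040000000d03000001080000000042060000003d01000000ca06000000ca03000001710700000171000000018f0300000159020000004406000001970700000197020000019700000000ec0300000248070000024801000002320700000232050000007b020000007b000000008b070000008b01000000c107000000c1050000025501000001bf07000001bf050000001c060000000b060000000b040000000b010000020801000002b407000002b405000000ea05000000500600000050040000005002000000c906000000c90300000033060000003303000001da07000001da010000027e070000027e05000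 10228)) (Nat.shiftLeft (Nat.lor 0x1000000000100000000010000000001000000000100000000010000000001000000000100000000010000000001000000000100000000010000000001000000000100000000010000000001000000000100000000010000000001000000000100000000010000000001000000000100000000010000000001000000000100000000010000000001000000000100000000010000000001000000000100000000010000000001000000000100000000010000000001000000000100000000010000000001000000000100000000010000000001000000000100000000010000000001000000000100000000010000000001000000000100000000010000000001000000000100000000010000000001000000000100000000010000000001000000000100000000010000000001000000000100000000010000000001000000000100000000010000000001000000000100000000010000000001000000000100000000010000000001000000000100000000010000000001000000000000010b07000000e207000000e2050000014e070000010e070000010e050000022507000000d603000001a707000001b107000001b10500000215060000017703000002ac06000001c607000001c605000001e306000001e806000001b5060000009c01000000df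07000000df0500000182060000014c06000000830100000111050000016a060000024f060000023606000000d3050000013406000000af060000016407000001850600000113060000021706000001240600000168070000028c06000001ed05000001e1060000021f060000004d030000023b070000023b05000000cb060000010006000002a8070000015006000000b706000000b701000000850700000085050000022707000001cf06000002340700000234050000011c06000000aa0600000035070000003505000001b80600000289050000023906000001cc07000001540700000259060000025903000001e506000001e505000001e504000001e5000000012b060000012b010000011405000001660600000166040000016602000000fb0500000156060000015603000001a607000001a605000001ab0600000170060000017003000000f20500000120060000012004000001280600000194060000009b040000011906000001190300000218030000014a07000002aa06000002aa01000000f406000000f403000001be06000001be03000002750300000013070000024d0700000079050000028e07000002a606000002a602000000e706000001d3050000022106000002210300000205060000010f070000020906000001d6030000026c06000002a407000002a4050000023f05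000000b906000000880700000088050000008802000000e106000000e1010000003f050000003f03000001cd06000002af050000023105000000a706000000a4050000003205000000320400000038070000023c060000023c050000023c040000023c000000014f01000001ff03000002b105000002b104000002b100000001880700000273060000027c060000027c040000027c01000000fe050000013d060000013d020000015a060000015a030000018a0600000138070000013801000001f306000001f303000000160700000084010000024203000000dc050000013a060000017a06000000110400000198060000019803000001510700000181070000007c030000022a070000022a04000001e903000001dc0400000290060000029002000000de060 (Nat.shiftLeft 0x100000000010000000001000000000100000000010000000001000000000100000000010000000001000000000100000000010000000001000000000100000000010000000001000000000100000000010000000001000000000100000000010000000001000000000100000000010000000001000000000100000000010000000001000000000100000000010000000001000000000100000000010000000001000000000100000000010000000001000000000100000000010000000001000000000100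000000010000000001000000000100000000010000000001000000000100000000010000000001000000000100000000010000000001000000000100000000010000000001000000000100000000010000000001000000000100000000010000000001000000000100000000010000000001000000000100000000010000000001000000000100000000010000000001000000000100000000010000000001000000000100000000010000000001000000000100000000010000000001000000000100000000010000000001000000000100000000010000000001000000000100000000010000000001000000000100000000010000000001000000000100000000010000000001000000000100000000010000000001000000000100000000010000000001000000000100000000010000000001000000000100000000010000000001000000000100000000010000000001000000000100000000010000000001000000000100000000010000000001000000000100000000010000000001000000000100000000010000000001000000000100000000010000000001000000000100000000010000000001000000000100000000010000000001000000000100000000010000000001000000000100000000010000000001000000000100000000010000000001000000000100000000010000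0000010000000001000000000100000000010000000001000000000100000000010000000001000000000100000000010000000001000000000100000000010000000001000000000100000000010000000001000000000100000000010000000001000000000100000000010000000001000000000100000000010000000001000000000100000000010000000001000000000100000000010000000001000000000100000000010000000001000000000100000000010000000001000000000100000000010000000001000000000100000000010000000001000000000100000000010000000001000000000100000000010000000001000000000100000000010000000001000000000100000000010000000001000000000100000000010000000001000000000100000000010000000001000000000100000000010000000001000000000100000000010000000001000000000100000000010000000001000000000100000000010000000001000000000100000000010000000001000000000100000000010000000001000000000100000000010000000001000000000100000000010000000001000000000100000000010000000001000000000100000000010000000001000000000100000000010000000001000000000100000000010000000001000000000100000000010000000001000000000100000000010000000001000000000100000000010000000001000000000100000000010000000001000000000100000000010000000001000000000100000000010000000001000000000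 10240)) 20476))

def orb0 : ℕ := 0x1fffffffffffffffffffffffffffffffffffffffffffffffffffffffffffffffffffffffffffffffffffffffffffffffffffffffffffffffffffffffffffffffffffffffffffffffffffffffffffffffffffffffffffff

theorem reach0_eq : reach sg0 (fun s => if s < 8 then [s] else []) 10 st0 0 = orb0 := by decide +kernel

theorem count0_eq : cntR (fun j => bit orb0 j) 10 0 = 693 := by decide +kernel

theorem level0 {G : Type*} [Group G] (ψ : G →* Equiv.Perm (Fin 693)) (hψ : ∀ s, s < 9 → IsImg ψ (gT s))
    (m' : ℕ) (h : m' ≤ Nat.card (fixK ψ (0 :: []))) : 693 * m' ≤ Nat.card (fixK ψ []) :=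
  level (ns := 8) sg0 (d := 10) (dR := 10) (steps := st0) (R := orb0) (show 693 ≤ 2 ^ 10 by decide) (show 0 < 693 by decide)
    (by intro s hs; interval_cases s; exacts [(hψ 1 (show 1 < 9 by decide)), (hψ 2 (show 2 < 9 by decide)), (hψ 3 (show 3 < 9 by decide)), (hψ 4 (show 4 < 9 by decide)), (hψ 5 (show 5 < 9 by decide)), (hψ 6 (show 6 < 9 by decide)), (hψ 7 (show 7 < 9 by decide)), (hψ 8 (show 8 < 9 by decide))])
    (by intro s hs; interval_cases s <;> decide +kernel)
    reach0_eq count0_eq (show orb0 < 2 ^ 693 by decide +kernel) h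

/-- Strong elements of level 1. -/
noncomputable def sg1 (x : ℕ) : ℕ := (Bool.rec (motive := fun _ => ℕ) (Bool.rec (motive := fun _ => ℕ) p61 p73 (Nat.ble 1 x)) (Bool.rec (motive := fun _ => ℕ) p81 p94 (Nat.ble 3 x)) (Nat.ble 2 x))

def st1 : ℕ := (Nat.lor 0x22902000000ae03000000ae02000000ae01000000ae00000001bb02000001bb000000009d030000009d020000009d010000009d00000002960200000275030000027502000002750100000275000000024c020000024c000000014602000001410300000141020000014101000001a20200000171030000016703000001670100000167000000014d000000015f020000002a030000002a020000002a000000001b030000001b010000001b000000000d030000000d020000000d01000000050200000005000000018203000001820200000182010000001c020000001c000000029b030000029b010000029b0000000084030000008402000000840100000084000000020c030000020c010000020c000000020503000002050200000205010000009403000000940200000094010000016503000001650100000165000000014b030000014b020000014b000000004403000000440200000044000000009703000000970200000097010000009700000000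900200000090010000009000000000f300000000e003000000e002000000e0010000027f00000000a900000001fd03000001c403000001c40200000017020000014703000001470200000147010000014700000000b803000000b8020000010c030000010c020000010c000000004002000001040200000062010000007803000000780200000078000000006b030000006b020000006b010000002e030000002e020000002e0100000251020000025101000001990300000199000000017f030000017f020000017f010000017f0000000181020000015a030000015a020000015a010000015a000000018e030000018e020000018e010000018e000000013d010000000b030000000b020000000b000000014c000000012b030000012b02000001e803000001e802000001e8000000028903000002a303000002a302000002a3010000018b020000000a030000000a020000000a010000000a000000012f030000012f020000012f010000012f000000001f030000001f020000001f01000000150300000015020000001500000001450300000145020000014501000000020300000002020000002502000002810300000281020000028100000000a603000000a602000000a6000000029402000002940100000294000000021c020000021c010000021c000000020203000002020200000202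01000001e903000001e902000001e901000001e9000000028f02000002910200000291010000028d030000028d020000028d0000000249030000024902000002490100000249000000021603000002160200000216010000021600000001c503000001c502000000c103000000c102000000c100000000f103000000f102000000f101000000f1000000004903000000490200000049010000010d020000010d010000010d000000003f020000003f010000003f000000006f030000006f020000006f010000006f000000006603000000660200000066010000025f00000001b003000001b002000001b000000001c203000001c202000001c201000001c2000000021203000002120200000007030000000702000000070000000162020000016201000001620000000027030000002702000000270100000027000000029303000002930200000293000000027703000002770200000277010000027700000001c103000001c102000001c101000001c100000001fb03000001fb02000001fb010000000103000000010200000001010000000100 (Nat.shiftLeft 0x100000000000001ab0200000155020000013c030000013c01000001dd0200000174000000002102000000bb030000015d0000000132010000024e0200000299010000025b02000001360200000113000000009e03000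001ee010000016903000002390000000209030000014f020000027203000000fc02000001ad020000021d0300000292030000029202000000c7020000018a010000018a00000001d70300000054020000005400000001f300000001120100000242010000024200000000d303000001570200000271010000026e0100000026000000001d03000001fc03000001fc00000001bf03000001bf02000001bf01000002a703000002a702000002a701000000fd030000027b010000027b000000012e030000012e010000018602000000bd03000000bd02000000bd000000020101000000dc02000001b1010000010e030000010e0200000110020000007103000000e303000000e302000000810200000108020000021f030000021f000000003601000001e600000002410200000241000000023e020000023e00000002560300000256010000025600000001ac01000001ac000000011f0200000170010000005b00000000a801000000a800000001d503000001d502000001d501000001d500000001d303000001d302000001d301000001d3000000029a000000024a030000028000000002b103000002b102000000a102000000a100000002260200000226010000022600000000e7020000011a030000007d020000007d0100000057030000007c010000007c00000000c302000000980300000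098020000009801000000e903000000e80000000068030000007b02000000c202000001ca000000011c010000011c0000000283010000028300000001b300000000f902000000f901000000b203000000b202000000b201000000b200000001be020000009a030000009a020000009a010000009a000000003103000000310200000031010000020602000002430200000243010000024300000001b603000001b602000001b601000001e203000001e20000000237020000007903000000790000000265030000007e030000007e000000004a010000008c020000005303000000530200000053010000020a030000020a020000020a0000000116030000011602000001160000000193000000013003000001300200000131030000013101000001c303000001c302000001c3000000026a010000021303000002130200000213010000024d030000024d020000024d000000029e030000029e02000000e102000000e100000000640300000064020000006400000001e703000001e702000001e701000002760300000276020000027600000000e203000000e202000000e20100000111030000011102000001500200000150010000000e0300000166030000016602000000de03000000de02000000de010000010503000001050200000105010000010500000002a503000002a502000002a501000002a500000001b503000001b502000001b501000001e5020000011503000001150100000115000000023f030000023f020000027903000002790000000255030000025502000001a803000001a80200000220020000022001000001bc03000001bc02000001bc01000001bc000000029f030000029f020000029f0000000246030000024602000002460100000240010000024000000000af03000000af00000001d803000001d80000000253020000025301000000f602000000f6010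 10236))

def orb1 : ℕ := 0xee3b8ee7eee3b8ee7eee3b8ee7fffffbb8ee3b8ee7eee3b8ee7eee3b8ee7fffffbb8ee3b8ee7eee3b8ee7eee3b8ee7fffffbb9ffffbb9ffffbb9ffffbb8ee3b8ee7fffffbb9ffffbb9ffffbb8ee3b8ee7eee3b8ee7ffe

theorem reach1_eq : reach sg1 (fun s => if s < 4 then [s] else []) 9 st1 1 = orb1 := by decide +kernel

theorem count1_eq : cntR (fun j => bit orb1 j) 10 0 = 512 := by decide +kernel

theorem level1 {G : Type*} [Group G] (ψ : G →* Equiv.Perm (Fin 693)) (hψ : ∀ s, s < 9 → IsImg ψ (gT s))
    (m' : ℕ) (h : m' ≤ Nat.card (fixK ψ (1 :: [0]))) : 512 * m' ≤ Nat.card (fixK ψ [0]) :=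
  level (ns := 4) sg1 (d := 10) (dR := 9) (steps := st1) (R := orb1) (show 693 ≤ 2 ^ 10 by decide) (show 1 < 693 by decide)
    (by intro s hs; interval_cases s; exacts [(img_p61 ψ hψ), (img_p73 ψ hψ), (img_p81 ψ hψ), (img_p94 ψ hψ)])
    (by intro s hs; interval_cases s <;> decide +kernel)
    reach1_eq count1_eq (show orb1 < 2 ^ 693 by decide +kernel) h

/-- Strong elements of level 2. -/
noncomputable def sg2 (x : ℕ) : ℕ := (Bool.rec (motive := fun _ => ℕ) (Bool.rec (motive := fun _ => ℕ) p155 p162 (Nat.ble 1 x)) (Bool.rec (motive := fun _ => ℕ) p170 p176 (Nat.ble 3 x)) (Nat.ble 2 x))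

def st2 : ℕ := 0x10000000001000000000100000000010000000001000000000100000000010000000001000000000100000000010000000001000000000100000000010000000001000000000100000000010000000001000000000100000000010000000001000000000100000000010000000001000000000100000000010000000001000000000100000000010000000001000000000100000000010000000001000000000100000000010000000001000000000100000000010000000001000000000100000000010000000001000000000100000000010000000001000000000100000000010000000001000000000100000000010000000001000000000100000000010000000001000000000100000000010000000001000000000100000000010000000001000000000100000000010000000001000000000100000000010000000001000000000100000000010000000001000000000100000000010000000001000000000100000000010000000001000000000100000000010000000001000000000100000000010000000001000000000100000000010000000001000000000100000000010000000001000000000100000000010000000001000000000100000000010000000001000000000100000000010000000001000000000100000000010000000001000000000100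000000010000000001000000000100000000010000000001000000000100000000010000000001000000000100000000010000000001000000000100000000010000000001000000000100000000010000000001000000000100000000010000000001000000000100000000010000000001000000000000016c010000004c000000006e00000002000200000200000000016803000002a2030000014e01000001a0030000022400000000c000000001480300000148020000011e00000002aa02000001d20100000180010000018000000001e003000001e0000000028c00000001020300000204030000021e010000021e0000000228030000025803000000b4010000001e020000001e010000019a030000019a00000000be00000001c8000000005a0300000268010000008e030000008e020000008e01000000480200000048000000012203000001220200000122010000002c020000002c0000000232030000003e00000000e603000000e600000001a403000001a401000001a4000000017603000001760200000176010000017600000002a002000002a000000002820200000288030000028801000002880000000042020000004201000001720300000172020000017201000001f603000001f602000001f60000000218030000021802000002180100000218000000014003000001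400200000140010000003c030000003c020000003c0100000072030000007202000000720100000072000000014a020000014a01000001d001000001da03000001da02000001da010000025e030000025e020000025e010000025e000000018c030000018c000000015c030000015c020000015c00000002220200000222000000022c030000022c020000022c010000022c000000025003000002500200000250010000025000000000ac03000000ac02000000ac01000000ac00000000ce03000000ce02000000ce01000000ce000000016e030000016e020000016e010000016e00000001260300000126020000012601000001260000000262030000026202000002620100000262000000001003000000100200000010010000001000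

def orb2 : ℕ := 0x111445110111445110111445110000004451144511011144511011144511000000445114451101114451101114451100000044400004440000444000044511445110000004440000444000044511445110111445110000

theorem reach2_eq : reach sg2 (fun s => if s < 4 then [s] else []) 8 st2 16 = orb2 := by decide +kernel

theorem count2_eq : cntR (fun j => bit orb2 j) 10 0 = 135 := by decide +kernel

theorem level2 {G : Type*} [Group G] (ψ : G →* Equiv.Perm (Fin 693)) (hψ : ∀ s, s < 9 → IsImg ψ (gT s))
    (m' : ℕ) (h : m' ≤ Nat.card (fixK ψ (16 :: [1, 0]))) : 135 * m' ≤ Nat.card (fixK ψ [1, 0]) :=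
  level (ns := 4) sg2 (d := 10) (dR := 8) (steps := st2) (R := orb2) (show 693 ≤ 2 ^ 10 by decide) (show 16 < 693 by decide)
    (by intro s hs; interval_cases s; exacts [(img_p155 ψ hψ), (img_p162 ψ hψ), (img_p170 ψ hψ), (img_p176 ψ hψ)])
    (by intro s hs; interval_cases s <;> decide +kernel)
    reach2_eq count2_eq (show orb2 < 2 ^ 693 by decide +kernel) h

/-- Strong elements of level 3. -/
noncomputable def sg3 (x : ℕ) : ℕ := (Bool.rec (motive := fun _ => ℕ) (Bool.rec (motive := fun _ => ℕ) p239 p244 (Nat.ble 1 x)) (Bool.rec (motive := fun _ => ℕ) p249 p253 (Nat.ble 3 x)) (Nat.ble 2 x))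

def st3 : ℕ := 0x100000000000000fb020000008301000000f100000001b60300000183030000026e030000026e00000000e000000000db03000000db00000000090300000009010000010c010000010c00000001e603000001e602000001e6010000012e03000002370300000237000000020b030000020b010000020b0000000249030000024902000002490100000249000000000303000000030200000003010000000300

def orb3 : ℕ := 0x800000000400000000220408000000000080000000040000000022040800000000008000000004000000002204080000210000802000108000000000000000210000802000108000000000000000000000208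

theorem reach3_eq : reach sg3 (fun s => if s < 4 then [s] else []) 5 st3 3 = orb3 := by decide +kernel

theorem count3_eq : cntR (fun j => bit orb3 j) 10 0 = 32 := by decide +kernel

theorem level3 {G : Type*} [Group G] (ψ : G →* Equiv.Perm (Fin 693)) (hψ : ∀ s, s < 9 → IsImg ψ (gT s))
    (m' : ℕ) (h : m' ≤ Nat.card (fixK ψ (3 :: [16, 1, 0]))) : 32 * m' ≤ Nat.card (fixK ψ [16, 1, 0]) :=
  level (ns := 4) sg3 (d := 10) (dR := 5) (steps := st3) (R := orb3) (show 693 ≤ 2 ^ 10 by decide) (show 3 < 693 by decide)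
    (by intro s hs; interval_cases s; exacts [(img_p239 ψ hψ), (img_p244 ψ hψ), (img_p249 ψ hψ), (img_p253 ψ hψ)])
    (by intro s hs; interval_cases s <;> decide +kernel)
    reach3_eq count3_eq (show orb3 < 2 ^ 693 by decide +kernel) h

/-- Strong elements of level 4. -/
noncomputable def sg4 (x : ℕ) : ℕ := (Bool.rec (motive := fun _ => ℕ) (Bool.rec (motive := fun _ => ℕ) p307 p310 (Nat.ble 1 x)) (Bool.rec (motive := fun _ => ℕ) p300 p331 (Nat.ble 3 x)) (Nat.ble 2 x))

def st4 : ℕ := 0x100000000010000000001000000000000002e020000002d030000002d020000002d010000002d00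

def orb4 : ℕ := 0xe00000000000000000000000000000e00000000000

theorem reach4_eq : reach sg4 (fun s => if s < 4 then [s] else []) 3 st4 45 = orb4 := by decide +kernel

theorem count4_eq : cntR (fun j => bit orb4 j) 10 0 = 6 := by decide +kernel

theorem level4 {G : Type*} [Group G] (ψ : G →* Equiv.Perm (Fin 693)) (hψ : ∀ s, s < 9 → IsImg ψ (gT s))
    (m' : ℕ) (h : m' ≤ Nat.card (fixK ψ (45 :: [3, 16, 1, 0]))) : 6 * m' ≤ Nat.card (fixK ψ [3, 16, 1, 0]) :=
  level (ns := 4) sg4 (d := 10) (dR := 3) (steps := st4) (R := orb4) (show 693 ≤ 2 ^ 10 by decide) (show 45 < 693 by decide)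
    (by intro s hs; interval_cases s; exacts [(img_p307 ψ hψ), (img_p310 ψ hψ), (img_p300 ψ hψ), (img_p331 ψ hψ)])
    (by intro s hs; interval_cases s <;> decide +kernel)
    reach4_eq count4_eq (show orb4 < 2 ^ 693 by decide +kernel) h

theorem card_range_ge_order {G : Type*} [Group G] (ψ : G →* Equiv.Perm (Fin 693)) (hψ : ∀ s, s < 9 → IsImg ψ (gT s)) :
    9196830720 ≤ Nat.card ψ.range :=
  card_range_ge ψ _ (le_trans (by decide +kernel) (level0 ψ hψ _ (level1 ψ hψ _ (level2 ψ hψ _ (level3 ψ hψ _ (level4 ψ hψ _ (one_le_card_fixK ψ _)))))))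

end CfsgLib.CosetEnum.Fi22U
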