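import Cfsg.Agent.CosetEnum.Fi22U.Data
import Cfsg.Agent.SporB.FFour
import Cfsg.Agent.Forms4.UnitarySimple
import Cfsg.Agent.Forms4.UnitaryCenter

set_option autoImplicit false
set_option maxRecDepth 100000
set_option exponentiation.threshold 200000
set_option Elab.async false

/-! `SU(6, 2)` acting on the 693 isotropic points. -/

namespace CfsgLib.CosetEnum.Fi22U

open CfsgLib.SporB Matrix

/-- The vector with a given code. -/
def vec (c : ℕ) : Fin 6 → FFour := fun i => FFour.ofCode (c / 4 ^ i.val % 4)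

/-- The code of a vector. -/
def enc (v : Fin 6 → FFour) : ℕ :=
  FFour.code (v 0) + 4 * FFour.code (v 1) + 16 * FFour.code (v 2) + 64 * FFour.code (v 3) +
    256 * FFour.code (v 4) + 1024 * FFour.code (v 5)

theorem code_ofCode : ∀ x < 4, FFour.code (FFour.ofCode x) = x := by decide

theorem enc_lt (v : Fin 6 → FFour) : enc v < 4096 := by
  have := FFour.code_lt (v 0)
  have := FFour.code_lt (v 1)
  have := FFour.code_lt (v 2)
  have := FFour.code_lt (v 3)
  have := FFour.code_lt (v 4)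
  have := FFour.code_lt (v 5)
  unfold enc
  omega

theorem vec_enc (v : Fin 6 → FFour) : vec (enc v) = v := by
  have := FFour.code_lt (v 0)
  have := FFour.code_lt (v 1)
  have := FFour.code_lt (v 2)
  have := FFour.code_lt (v 3)
  have := FFour.code_lt (v 4)
  have := FFour.code_lt (v 5)
  funext i
  unfold vec enc
  fin_cases i <;> (dsimp only; conv_rhs => rw [← FFour.ofCode_code (v _)]) <;> congr 1 <;> simp <;> omega

/-- Product of codes. -/
def mulC (a b : ℕ) : ℕ := ([0, 0, 0, 0, 0, 1, 2, 3, 0, 2, 3, 1, 0, 3, 1, 2] : List ℕ).getD (4 * a + b) 0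

theorem mulC_spec : ∀ a < 4, ∀ b < 4, FFour.ofCode a * FFour.ofCode b = FFour.ofCode (mulC a b) ∧ mulC a b < 4 := by
  decide

/-- Scalar multiple of a code. -/
def smulC (a c : ℕ) : ℕ :=
  mulC a (c % 4) + 4 * mulC a (c / 4 % 4) + 16 * mulC a (c / 16 % 4) + 64 * mulC a (c / 64 % 4) +
    256 * mulC a (c / 256 % 4) + 1024 * mulC a (c / 1024 % 4)

theorem enc_smul (a c : ℕ) (ha : a < 4) : enc (FFour.ofCode a • vec c) = smulC a c := by
  have h : ∀ x, FFour.code (FFour.ofCode a * FFour.ofCode (x % 4)) = mulC a (x % 4) := fun x => by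
    rw [(mulC_spec a ha _ (Nat.mod_lt _ (by norm_num))).1, code_ofCode _ (mulC_spec a ha _ (Nat.mod_lt _ (by norm_num))).2]
  unfold enc smulC
  simp only [Pi.smul_apply, smul_eq_mul, vec, h]
  norm_num

theorem smul_vec (a c : ℕ) (ha : a < 4) : FFour.ofCode a • vec c = vec (smulC a c) := by
  rw [← enc_smul a c ha, vec_enc]

/-- Whether a nonzero digit. -/
def digitBit (c : ℕ) : ℕ := bif Nat.beq (c % 4) 0 then 0 else 1

/-- The number of nonzero coordinates modulo two. -/
def parityC (c : ℕ) : ℕ :=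
  (digitBit c + digitBit (c / 4) + digitBit (c / 16) + digitBit (c / 64) + digitBit (c / 256) + digitBit (c / 1024)) % 2

theorem cube (x : ℕ) : FFour.ofCode (x % 4) * (FFour.ofCode (x % 4) * FFour.ofCode (x % 4)) =
    FFour.ofCode (digitBit x) := by
  have h : ∀ y < 4, FFour.ofCode y * (FFour.ofCode y * FFour.ofCode y) =
      FFour.ofCode (bif Nat.beq y 0 then 0 else 1) := by decide
  exact h _ (Nat.mod_lt _ (by norm_num))

theorem herm_self (c : ℕ) : Cfsg.hermForm 6 FFour 2 (vec c) (vec c) = FFour.ofCode (parityC c) := by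
  have h : ∀ a < 2, ∀ b < 2, ∀ d < 2, ∀ e < 2, ∀ f < 2, ∀ g < 2,
      FFour.ofCode a + FFour.ofCode b + FFour.ofCode d + FFour.ofCode e + FFour.ofCode f + FFour.ofCode g =
        FFour.ofCode ((a + b + d + e + f + g) % 2) := by decide
  have hd : ∀ x, digitBit x < 2 := fun x => by unfold digitBit; cases Nat.beq (x % 4) 0 <;> simp
  rw [parityC, ← h _ (hd _) _ (hd _) _ (hd _) _ (hd _) _ (hd _) _ (hd _)]
  simp only [Cfsg.hermForm, Fin.sum_univ_six, pow_two, vec, ← cube]
  norm_num

/-- The point with a given number. -/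
noncomputable def pv (i : Fin 693) : Fin 6 → FFour := vec (ext ptC i.val)

/-- The point table is consistent. -/
def ptEntry (i : ℕ) : Bool :=
  bif Nat.blt i 693 then
    (Nat.beq (ext idxTab (smulC 1 (ext ptC i))) i && Nat.beq (ext idxTab (smulC 2 (ext ptC i))) i &&
      Nat.beq (ext idxTab (smulC 3 (ext ptC i))) i) && (Nat.beq (parityC (ext ptC i)) 0 && Nat.beq (ext idxTab (ext ptC i)) i)
  else true

theorem pt_ok : allR ptEntry 10 0 = true := by decide +kernel

theorem pt_spec (i : Fin 693) : (∀ a < 4, a ≠ 0 → ext idxTab (smulC a (ext ptC i.val)) = i.val) ∧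
    parityC (ext ptC i.val) = 0 ∧ ext idxTab (ext ptC i.val) = i.val := by
  have h := allR_spec 10 0 pt_ok i.val (Nat.zero_le _) (by omega)
  unfold ptEntry at h
  rw [show Nat.blt i.val 693 = true by simp] at h
  simp only [cond_true, Bool.and_eq_true] at h
  refine ⟨fun a ha ha0 => ?_, Nat.eq_of_beq_eq_true h.2.1, Nat.eq_of_beq_eq_true h.2.2⟩
  interval_cases a
  · exact absurd rfl ha0
  · exact Nat.eq_of_beq_eq_true h.1.1.1
  · exact Nat.eq_of_beq_eq_true h.1.1.2
  · exact Nat.eq_of_beq_eq_true h.1.2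

/-- Every isotropic code is a multiple of a point. -/
def coverEntry (c : ℕ) : Bool :=
  bif Nat.beq c 0 || Nat.beq (parityC c) 1 then true else
    Nat.blt (ext idxTab c) 693 && (Nat.blt (ext cTab c) 4 && Nat.beq (smulC (ext cTab c) (ext ptC (ext idxTab c))) c)

theorem cover_ok : allR coverEntry 12 0 = true := by decide +kernel

theorem exists_point (v : Fin 6 → FFour) (hv : v ≠ 0) (hiso : Cfsg.hermForm 6 FFour 2 v v = 0) :
    ∃ (j : Fin 693) (a : ℕ), a < 4 ∧ a ≠ 0 ∧ v = FFour.ofCode a • pv j := by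
  have h := allR_spec 12 0 cover_ok (enc v) (Nat.zero_le _) (by have := enc_lt v; omega)
  unfold coverEntry at h
  have h0 : Nat.beq (enc v) 0 = false := by
    cases hb : Nat.beq (enc v) 0
    · rfl
    · refine absurd ?_ hv
      rw [← vec_enc v, Nat.eq_of_beq_eq_true hb]
      funext i
      simp [vec, FFour.ofCode]
      rfl
  have h1 : Nat.beq (parityC (enc v)) 1 = false := by
    cases hb : Nat.beq (parityC (enc v)) 1
    · rfl
    · have hh := herm_self (enc v)
      rw [vec_enc, hiso, Nat.eq_of_beq_eq_true hb] at hh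
      exact absurd hh (by decide)
  rw [h0, h1] at h
  simp only [Bool.or_self, cond_false, Bool.and_eq_true, Nat.blt_eq] at h
  have hv' : v = FFour.ofCode (ext cTab (enc v)) • pv ⟨ext idxTab (enc v), h.1⟩ := by
    rw [pv, smul_vec _ _ h.2.1, Nat.eq_of_beq_eq_true h.2.2, vec_enc]
  refine ⟨_, _, h.2.1, fun ha => hv ?_, hv'⟩
  refine hv'.trans ?_
  rw [show FFour.ofCode (ext cTab (enc v)) = 0 by rw [ha]; decide, zero_smul]

theorem pv_ne_zero (i : Fin 693) : pv i ≠ 0 := by
  intro h
  have h1 := (pt_spec i).1 1 (by norm_num) (by norm_num)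
  have h2 := (pt_spec i).1 2 (by norm_num) (by norm_num)
  rw [← enc_smul 1 _ (by norm_num)] at h1
  rw [pv] at h
  rw [h, smul_zero] at h1
  have h3 : ext idxTab (enc 0) = 693 := by decide +kernel
  omega

theorem pv_iso (i : Fin 693) : Cfsg.hermForm 6 FFour 2 (pv i) (pv i) = 0 := by
  rw [pv, herm_self, (pt_spec i).2.1]
  decide

/-- The number of the point spanned by a vector. -/
noncomputable def ptOf (v : Fin 6 → FFour) : ℕ := ext idxTab (enc v)

theorem ptOf_smul (a : FFour) (ha : a ≠ 0) (i : Fin 693) : ptOf (a • pv i) = i.val := by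
  rw [ptOf, ← FFour.ofCode_code a, pv, enc_smul _ _ (FFour.code_lt a)]
  refine (pt_spec i).1 _ (FFour.code_lt a) fun h => ha ?_
  rw [← FFour.ofCode_code a, h]
  decide

local notation "SUSix" => Cfsg.SU 6 FFour 2

theorem mulVec_ne_zero (M : SUSix) (v : Fin 6 → FFour) (hv : v ≠ 0) : M.1.1 *ᵥ v ≠ 0 := by
  intro h
  refine hv ?_
  have h1 := congrArg (fun w => ((M⁻¹ : SUSix)).1.1 *ᵥ w) h
  simp only [Matrix.mulVec_mulVec, Matrix.mulVec_zero] at h1
  rw [← Matrix.SpecialLinearGroup.coe_mul, ← Subgroup.coe_mul, inv_mul_cancel] at h1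
  simpa using h1

theorem exists_image (M : SUSix) (i : Fin 693) : ∃ (j : Fin 693) (a : FFour), a ≠ 0 ∧ M.1.1 *ᵥ pv i = a • pv j := by
  obtain ⟨j, a, ha, ha0, h⟩ := exists_point _ (mulVec_ne_zero M _ (pv_ne_zero i))
    ((CfsgLib.Forms4.mem_SU_iff.mp M.2 (pv i) (pv i)).trans (pv_iso i))
  refine ⟨j, FFour.ofCode a, fun hz => ha0 ?_, h⟩
  rw [← code_ofCode a ha, hz]
  decide

/-- The image of a point. -/
noncomputable def imgPt (M : SUSix) (i : Fin 693) : Fin 693 :=
  ⟨ptOf (M.1.1 *ᵥ pv i), by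
    obtain ⟨j, a, ha, h⟩ := exists_image M i
    rw [h, ptOf_smul a ha]
    exact j.2⟩

theorem imgPt_spec (M : SUSix) (i : Fin 693) : ∃ a : FFour, a ≠ 0 ∧ M.1.1 *ᵥ pv i = a • pv (imgPt M i) := by
  obtain ⟨j, a, ha, h⟩ := exists_image M i
  refine ⟨a, ha, ?_⟩
  rw [show imgPt M i = j from Fin.ext (by simp [imgPt, h, ptOf_smul a ha])]
  exact h

theorem imgPt_mul (M N : SUSix) (i : Fin 693) : imgPt (M * N) i = imgPt M (imgPt N i) := by
  obtain ⟨a, ha, hN⟩ := imgPt_spec N i
  obtain ⟨b, hb, hM⟩ := imgPt_spec M (imgPt N i)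
  refine Fin.ext ?_
  show ptOf _ = _
  rw [Subgroup.coe_mul, Matrix.SpecialLinearGroup.coe_mul, ← Matrix.mulVec_mulVec, hN, Matrix.mulVec_smul, hM,
    smul_smul, ptOf_smul _ (mul_ne_zero ha hb)]

theorem imgPt_one (i : Fin 693) : imgPt 1 i = i := by
  refine Fin.ext ?_
  show ptOf _ = _
  simp only [OneMemClass.coe_one, Matrix.SpecialLinearGroup.coe_one, Matrix.one_mulVec]
  exact (congrArg ptOf (one_smul FFour (pv i)).symm).trans (ptOf_smul 1 one_ne_zero i)

/-- The action on points. -/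
noncomputable def π : SUSix →* Equiv.Perm (Fin 693) where
  toFun M :=
    { toFun := imgPt M
      invFun := imgPt M⁻¹
      left_inv := fun i => by rw [← imgPt_mul, inv_mul_cancel, imgPt_one]
      right_inv := fun i => by rw [← imgPt_mul, mul_inv_cancel, imgPt_one] }
  map_one' := Equiv.ext imgPt_one
  map_mul' M N := Equiv.ext (imgPt_mul M N)

/-- The transvection of a vector. -/
def trv (u : Fin 6 → FFour) : Matrix (Fin 6) (Fin 6) FFour := Matrix.of fun i j => (1 : Matrix (Fin 6) (Fin 6) FFour) i j + u i * (u j) ^ 2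

theorem trv_eq (u : Fin 6 → FFour) : trv u = 1 + Matrix.replicateCol Unit u * Matrix.replicateRow Unit (fun j => (u j) ^ 2) := by
  ext i j
  simp [trv, Matrix.mul_apply]

theorem trv_mulVec (u v : Fin 6 → FFour) (i : Fin 6) :
    (trv u *ᵥ v) i = v i + Cfsg.hermForm 6 FFour 2 v u * u i := by
  simp only [trv, Matrix.mulVec, dotProduct, Matrix.of_apply, add_mul, Finset.sum_add_distrib, Cfsg.hermForm,
    Finset.sum_mul]
  congr 1
  · simp [Matrix.one_apply]
  · exact Finset.sum_congr rfl fun j _ => by ring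

theorem sq_add : ∀ x y : FFour, (x + y) * (x + y) = x * x + y * y := by decide

theorem fourth : ∀ x : FFour, x * x * (x * x) = x := by decide

theorem double : ∀ x : FFour, x + x = 0 := by decide

theorem herm_symm (x u : Fin 6 → FFour) : Cfsg.hermForm 6 FFour 2 x u * Cfsg.hermForm 6 FFour 2 x u = Cfsg.hermForm 6 FFour 2 u x := by
  have h : ∀ a b : FFour, a * (b * b) * (a * (b * b)) = b * (a * a) := by decide
  simp only [Cfsg.hermForm, Fin.sum_univ_six, pow_two, sq_add, h]

theorem trv_det (u : Fin 6 → FFour) (hu : Cfsg.hermForm 6 FFour 2 u u = 0) : (trv u).det = 1 := by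
  rw [trv_eq, Matrix.det_one_add_replicateCol_mul_replicateRow]
  have : (fun j => u j ^ 2) ⬝ᵥ u = Cfsg.hermForm 6 FFour 2 u u := by
    simp only [dotProduct, Cfsg.hermForm]
    exact Finset.sum_congr rfl fun j _ => mul_comm _ _
  rw [this, hu, add_zero]

theorem trv_mem (u : Fin 6 → FFour) (hu : Cfsg.hermForm 6 FFour 2 u u = 0) :
    (⟨trv u, trv_det u hu⟩ : Matrix.SpecialLinearGroup (Fin 6) FFour) ∈ SUSix := by
  refine CfsgLib.Forms4.mem_SU_iff.mpr ?_
  intro x y
  set a := Cfsg.hermForm 6 FFour 2 x u with ha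
  set b := Cfsg.hermForm 6 FFour 2 y u with hb
  have key : Cfsg.hermForm 6 FFour 2 (fun i => x i + a * u i) (fun i => y i + b * u i) =
      Cfsg.hermForm 6 FFour 2 x y + b * b * Cfsg.hermForm 6 FFour 2 x u +
        a * (Cfsg.hermForm 6 FFour 2 u y + b * b * Cfsg.hermForm 6 FFour 2 u u) := by
    simp only [Cfsg.hermForm, Finset.mul_sum, ← Finset.sum_add_distrib]
    refine Finset.sum_congr rfl fun i _ => ?_
    rw [pow_two, sq_add]
    ring
  show Cfsg.hermForm 6 FFour 2 (trv u *ᵥ x) (trv u *ᵥ y) = _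
  rw [show trv u *ᵥ x = fun i => x i + a * u i from funext (trv_mulVec u x),
    show trv u *ᵥ y = fun i => y i + b * u i from funext (trv_mulVec u y), key, hu, ← herm_symm y u, ← ha, ← hb,
    mul_zero, add_zero, mul_comm (b * b) a, add_assoc, double, add_zero]

/-- The vector of a generator. -/
def uVec (s : ℕ) : Fin 6 → FFour := vec (uList.getD s 0)

theorem uVec_iso (s : Fin 9) : Cfsg.hermForm 6 FFour 2 (uVec s.val) (uVec s.val) = 0 := by
  rw [uVec, herm_self]
  revert s
  decide +kernel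

/-- The matrix of a generator. -/
noncomputable def genSU (s : Fin 9) : SUSix := ⟨⟨trv (uVec s.val), trv_det _ (uVec_iso s)⟩, trv_mem _ (uVec_iso s)⟩

/-- The code of the image of a point under a generator. -/
def imgC (uc c : ℕ) : ℕ :=
  enc (fun i => vec c i + (vec c 0 * (vec uc 0 * vec uc 0) + vec c 1 * (vec uc 1 * vec uc 1) + vec c 2 * (vec uc 2 * vec uc 2) +
    vec c 3 * (vec uc 3 * vec uc 3) + vec c 4 * (vec uc 4 * vec uc 4) + vec c 5 * (vec uc 5 * vec uc 5)) * vec uc i)

/-- The generators act by their tables. -/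
noncomputable def actEntry (s i : ℕ) : Bool :=
  bif Nat.blt i 693 then Nat.beq (ext idxTab (imgC (uList.getD s 0) (ext ptC i))) (ext (gT s) i) else true

theorem act_ok : (List.range 9).all (fun s => allR (actEntry s) 10 0) = true := by decide +kernel

theorem π_genSU (s : Fin 9) (i : Fin 693) : (π (genSU s) i).val = ext (gT s.val) i.val := by
  have h := allR_spec 10 0 (List.all_eq_true.mp act_ok s.val (List.mem_range.mpr s.2)) i.val (Nat.zero_le _) (by omega)
  unfold actEntry at h
  rw [show Nat.blt i.val 693 = true by simp] at h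
  rw [← Nat.eq_of_beq_eq_true h]
  show ext idxTab (enc (trv (uVec s.val) *ᵥ pv i)) = _
  congr 2
  funext k
  rw [trv_mulVec]
  simp only [Cfsg.hermForm, Fin.sum_univ_six, pow_two, uVec, pv]

theorem ker_scalar (M : SUSix) (hM : M ∈ π.ker) : M.1.1 = M.1.1 0 0 • (1 : Matrix (Fin 6) (Fin 6) FFour) := by
  have hfix : ∀ u : Fin 6 → FFour, u ≠ 0 → Cfsg.hermForm 6 FFour 2 u u = 0 → ∃ c : FFour, M.1.1 *ᵥ u = c • u := by
    intro u hu hiso
    obtain ⟨j, a, ha, -, rfl⟩ := exists_point u hu hiso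
    obtain ⟨b, -, hb⟩ := imgPt_spec M j
    rw [show imgPt M j = j from Equiv.congr_fun (MonoidHom.mem_ker.mp hM) j] at hb
    exact ⟨b, by rw [Matrix.mulVec_smul, hb, smul_comm]⟩
  set w : FFour := FFour.ofCode 2 with hw
  have hrel : ∀ (x : FFour), x * (x * x) = 1 → ∀ i j : Fin 6, i ≠ j → ∃ c : FFour, ∀ k,
      M.1.1 k i + M.1.1 k j * x = c * ((if k = i then (1 : FFour) else 0) + if k = j then x else 0) := by
    intro x hx i j hij
    set u : Fin 6 → FFour := Pi.single i 1 + Pi.single j x with hu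
    have hne : u ≠ 0 := fun h => by simpa [hu, hij] using congrFun h i
    have hiso : Cfsg.hermForm 6 FFour 2 u u = 0 := by
      rw [Cfsg.hermForm, ← Finset.sum_subset (Finset.subset_univ {i, j}) (fun k _ hk => by
        simp only [Finset.mem_insert, Finset.mem_singleton, not_or] at hk
        simp [hu, Pi.single_apply, hk.1, hk.2]), Finset.sum_pair hij]
      simp [hu, hij, hij.symm, pow_two, hx, double]
    obtain ⟨c, hc⟩ := hfix u hne hiso
    refine ⟨c, fun k => ?_⟩
    have hk := congrFun hc k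
    simp only [hu, Matrix.mulVec_add, Matrix.mulVec_single, Pi.add_apply, Pi.smul_apply, smul_eq_mul,
      Pi.single_apply] at hk
    simpa [mul_comm] using hk
  have hoff : ∀ k j : Fin 6, k ≠ j → M.1.1 k j = 0 := by
    intro k j hkj
    obtain ⟨i, hik, hij⟩ : ∃ i : Fin 6, i ≠ k ∧ i ≠ j := by revert hkj; revert k j; decide
    obtain ⟨c, hc⟩ := hrel 1 (by decide) i j hij
    obtain ⟨d, hd⟩ := hrel w (by decide) i j hij
    have e1 := hc k
    have e2 := hd k
    rw [if_neg hik.symm, if_neg hkj, add_zero, mul_zero] at e1 e2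
    have h : ∀ a b : FFour, a + b * 1 = 0 → a + b * FFour.ofCode 2 = 0 → b = 0 := by decide
    exact h _ _ e1 e2
  have hdiag : ∀ j : Fin 6, M.1.1 j j = M.1.1 0 0 := by
    intro j
    by_cases hj : (0 : Fin 6) = j
    · rw [← hj]
    · obtain ⟨c, hc⟩ := hrel 1 (by decide) 0 j hj
      have e1 := hc 0
      have e2 := hc j
      rw [hoff 0 j hj, if_pos rfl, if_neg hj] at e1
      rw [hoff j 0 (Ne.symm hj), if_neg (Ne.symm hj), if_pos rfl] at e2
      simp only [zero_mul, mul_one, add_zero, zero_add] at e1 e2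
      rw [e1, e2]
  ext k j
  by_cases hkj : k = j
  · subst hkj; simp [hdiag k]
  · simp [hoff k j hkj, hkj]

theorem ker_le_center : π.ker ≤ Subgroup.center SUSix := by
  intro M hM
  rw [Subgroup.mem_center_iff]
  intro N
  refine Subtype.ext (Subtype.ext ?_)
  simp only [Subgroup.coe_mul, Matrix.SpecialLinearGroup.coe_mul]
  rw [ker_scalar M hM]
  simp

/-- Scalar matrices in `SU(6, 2)`. -/
noncomputable def scal (c : FFour) (hc : c * (c * c) = 1) : SUSix :=
  ⟨⟨c • (1 : Matrix (Fin 6) (Fin 6) FFour), by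
      rw [Matrix.det_smul, Matrix.det_one, mul_one, Fintype.card_fin, show c ^ 6 = c * (c * c) * (c * (c * c)) by ring,
        hc, one_mul]⟩, by
    refine CfsgLib.Forms4.mem_SU_iff.mpr fun u v => ?_
    simp only [Matrix.smul_mulVec, Matrix.one_mulVec, Cfsg.hermForm, Pi.smul_apply, smul_eq_mul]
    refine Finset.sum_congr rfl fun i _ => ?_
    calc c * u i * (c * v i) ^ 2 = c * (c * c) * (u i * v i ^ 2) := by ring
      _ = u i * v i ^ 2 := by rw [hc, one_mul]⟩

theorem ker_eq_center : π.ker = Subgroup.center SUSix := by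
  refine Subgroup.eq_of_le_of_card_ge ker_le_center ?_
  rw [CfsgLib.Forms4.card_center_SU (q := 2) (by rw [FFour.card_eq]; norm_num) (by norm_num),
    show Nat.gcd 6 (2 + 1) = 3 by norm_num]
  have hcube : ∀ k : Fin 3, FFour.ofCode (k.val + 1) * (FFour.ofCode (k.val + 1) * FFour.ofCode (k.val + 1)) = 1 := by
    decide
  let f : Fin 3 → π.ker := fun k => ⟨scal _ (hcube k), by
    rw [MonoidHom.mem_ker]
    refine Equiv.ext fun i => Fin.ext ?_
    show ptOf ((FFour.ofCode (k.val + 1) • (1 : Matrix (Fin 6) (Fin 6) FFour)) *ᵥ pv i) = i.val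
    rw [Matrix.smul_mulVec, Matrix.one_mulVec]
    refine ptOf_smul _ (fun h => ?_) i
    have := hcube k
    rw [h, zero_mul] at this
    exact zero_ne_one this⟩
  have hinj : Function.Injective f := by
    intro a b h
    have h1 := congrArg (fun M : π.ker => M.1.1.1 0 0) h
    simp only [f, scal, Matrix.smul_apply, Matrix.one_apply_eq, smul_eq_mul, mul_one] at h1
    have h2 := congrArg FFour.code h1
    rw [code_ofCode _ (by omega), code_ofCode _ (by omega)] at h2
    exact Fin.ext (by omega)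
  simpa using Nat.card_le_card_of_injective f hinj

/-- The image is `PSU(6, 2)`. -/
noncomputable def rangeEquiv : Cfsg.PSU 6 FFour 2 ≃* π.range :=
  (QuotientGroup.quotientMulEquivOfEq ker_eq_center.symm).trans (QuotientGroup.quotientKerEquivRange π)

theorem card_PSU_six : Nat.card (Cfsg.PSU 6 FFour 2) = 9196830720 := by
  have hF : Fintype.card FFour = 2 ^ 2 := by rw [FFour.card_eq]; norm_num
  have h1 := CfsgLib.Forms4.card_SU_mul_GU (F := FFour) (q := 2) (n := 6) hF (by norm_num)
  have h2 := CfsgLib.Forms.card_GU (F := FFour) (q := 2) hF 6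
  have h3 := Subgroup.card_eq_card_quotient_mul_card_subgroup (Subgroup.center SUSix)
  rw [CfsgLib.Forms4.card_center_SU hF (by norm_num)] at h3
  have h4 : (2 : ℕ) ^ (∑ i ∈ Finset.range 6, i) * ∏ i ∈ Finset.range 6, CfsgLib.Forms.u 2 (i + 1) = 82771476480 := by
    decide +kernel
  rw [h2, h3, h4, show Nat.gcd 6 (2 + 1) = 3 by norm_num] at h1
  show Nat.card (SUSix ⧸ Subgroup.center SUSix) = _
  omega

end CfsgLib.CosetEnum.Fi22U
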