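import Cfsg.Agent.CosetEnum.Fi22Order.Order
import Cfsg.Agent.CosetEnum.Fi22U.Lower
import Cfsg.Agent.CosetEnum.Fi22U.Unitary
import Cfsg.Agent.CosetEnum.Restrict
import Cfsg.Agent.CosetEnum.WordTest
import Cfsg.Prelude.Def_SporadicB

set_option autoImplicit false
set_option maxRecDepth 100000
set_option exponentiation.threshold 200000
set_option Elab.async false

/-! The point stabiliser in the presented Fi22 is a non-split double cover of PSU(6, 2). -/

namespace CfsgLib.CosetEnum.Fi22U

open CfsgLib.SporB Restrict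

local notation "Gp" => Fi22.setup.Grp
local notation "Hs" => Fi22H.enum.H

/-- The word of a generator. -/
noncomputable abbrev hgen (s : ℕ) : Gp := prodw Fi22.setup.g (Fi22H.enum.sW.getD s [])

theorem word_lt (s : ℕ) (x : ℕ) (hx : x ∈ Fi22H.enum.sW.getD s []) : x < Fi22.setup.k := by
  by_cases hs : s < Fi22H.enum.sW.length
  · rw [List.getD_eq_getElem _ _ hs] at hx
    exact Fi22H.enum.sW_lt _ (List.getElem_mem hs) x hx
  · rw [List.getD_eq_default _ _ (Nat.le_of_not_lt hs)] at hx
    simp at hx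

theorem hgen_inv (s : ℕ) : prodw Fi22.setup.g (Fi22H.enum.sW.getD s []).reverse = (hgen s)⁻¹ := by
  simp only [hgen, prodw, List.map_reverse, List.prod_inv_reverse, List.map_map]
  congr 2
  refine List.map_congr_left fun x hx => ?_
  exact Fi22.setup.hiv x (word_lt s x hx) (word_lt s x hx)

/-- A point among the cosets. -/
noncomputable def ioEntry (i : ℕ) : Bool :=
  bif Nat.blt i 693 then Nat.blt (ext oTab i) 3510 && Nat.beq (ext ioTab (ext oTab i)) i else true

theorem io_ok : allR ioEntry 10 0 = true := by decide +kernel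

theorem io_spec (i : Fin 693) : ext oTab i.val < 3510 ∧ ext ioTab (ext oTab i.val) = i.val := by
  have h := allR_spec 10 0 io_ok i.val (Nat.zero_le _) (by omega)
  unfold ioEntry at h
  rw [show Nat.blt i.val 693 = true by simp] at h
  simp only [cond_true, Bool.and_eq_true, Nat.blt_eq] at h
  exact ⟨h.1, Nat.eq_of_beq_eq_true h.2⟩

/-- The points as cosets. -/
noncomputable def ι (i : Fin 693) : Fin Fi22H.enum.n := ⟨ext oTab i.val, (io_spec i).1⟩

theorem ι_injective : Function.Injective ι := fun a b h => Fin.ext (by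
  rw [← (io_spec a).2, ← (io_spec b).2]
  exact congrArg (fun x : Fin Fi22H.enum.n => ext ioTab x.val) h)

/-- The generators act on the points by their tables. -/
noncomputable def resEntry (s i : ℕ) : Bool :=
  bif Nat.blt i 693 then
    Nat.blt (ext (gT s) i) 693 &&
      Nat.beq (walk Fi22H.enum.tb (Fi22H.enum.sW.getD s []).reverse (ext oTab i)) (ext oTab (ext (gT s) i))
  else true

theorem res_ok : (List.range 9).all (fun s => allR (resEntry s) 10 0) = true := by decide +kernel

theorem res_ok_spec (s : Fin 9) (i : Fin 693) : ext (gT s.val) i.val < 693 ∧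
    walk Fi22H.enum.tb (Fi22H.enum.sW.getD s.val []).reverse (ext oTab i.val) = ext oTab (ext (gT s.val) i.val) := by
  have h := allR_spec 10 0 (List.all_eq_true.mp res_ok s.val (List.mem_range.mpr s.2)) i.val (Nat.zero_le _) (by omega)
  unfold resEntry at h
  rw [show Nat.blt i.val 693 = true by simp] at h
  simp only [cond_true, Bool.and_eq_true, Nat.blt_eq] at h
  exact ⟨h.1, Nat.eq_of_beq_eq_true h.2⟩

/-- The word of the first generator from the others. -/
def aWord : List ℕ := (List.replicate 5 [3, 7, 2, 6, 8, 1]).flatten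

/-- Adjacent generators. -/
def adjacent : List (ℕ × ℕ) := [(1, 2), (2, 3), (3, 4), (4, 5), (2, 6), (6, 7), (8, 4)]

/-- The word of a list of generators. -/
noncomputable def flat (w : List ℕ) : List ℕ := (w.map fun s => Fi22H.sW.getD s []).flatten

theorem flat_lt (w : List ℕ) : ∀ x ∈ flat w, x < Fi22.setup.k := by
  intro x hx
  obtain ⟨l, hl, hxl⟩ := List.mem_flatten.mp hx
  obtain ⟨s, -, rfl⟩ := List.mem_map.mp hl
  exact word_lt s x hxl

theorem prodw_flat (w : List ℕ) : prodw Fi22.setup.g (flat w) = (w.map hgen).prod := by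
  induction w with
  | nil => rfl
  | cons s w ih =>
    rw [List.map_cons, List.prod_cons, ← ih]
    simp only [flat, prodw, hgen, List.map_cons, List.flatten_cons, List.map_append, List.prod_append]
    rfl

theorem braid_ok : adjacent.all (fun p =>
    allR (sameWord 3510 Fi22H.enum.tb (flat [p.1, p.2, p.1]) (flat [p.2, p.1, p.2])) 12 0) = true := by
  decide +kernel

theorem aWord_ok : allR (sameWord 3510 Fi22H.enum.tb (flat aWord) (flat [0])) 12 0 = true := by decide +kernel

theorem first_moves : Nat.beq (walk Fi22H.enum.tb [0] 1) 1 = false := by decide +kernel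

theorem first_trivial : allR (fun i => bif Nat.blt i 693 then Nat.beq (ext (gT 0) i) i else true) 10 0 = true := by
  decide +kernel

section Words

variable {φ : Gp →* Equiv.Perm (Fin Fi22H.enum.n)}
  (hinj : Function.Injective φ)
  (hφ : ∀ (w : List ℕ), (∀ x ∈ w, x < Fi22.setup.k) → ∀ i : Fin Fi22H.enum.n,
    ((φ (prodw Fi22.setup.g w))⁻¹ i).val = walk Fi22H.enum.tb w i)

include hinj hφ

theorem words_eq_of_check (v w : List ℕ) (h : allR (sameWord 3510 Fi22H.enum.tb (flat v) (flat w)) 12 0 = true) :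
    (v.map hgen).prod = (w.map hgen).prod := by
  rw [← prodw_flat, ← prodw_flat]
  exact prodw_eq_of_sameWord hinj hφ (flat v) (flat w) (flat_lt v) (flat_lt w)
    (d := 12) (show 3510 ≤ 2 ^ 12 by decide) h

theorem braid_eq (x y : ℕ) (h : (x, y) ∈ adjacent) : hgen x * hgen y * hgen x = hgen y * hgen x * hgen y := by
  have h1 := words_eq_of_check hinj hφ [x, y, x] [y, x, y] (List.all_eq_true.mp braid_ok (x, y) h)
  simpa only [List.map_cons, List.map_nil, List.prod_cons, List.prod_nil, mul_one, mul_assoc] using h1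

theorem aWord_eq : (aWord.map hgen).prod = hgen 0 := by
  have h1 := words_eq_of_check hinj hφ aWord [0] aWord_ok
  simpa only [List.map_cons, List.map_nil, List.prod_cons, List.prod_nil, mul_one] using h1

end Words

/-- The point stabiliser and its map onto PSU(6, 2). -/
theorem stabiliser_facts :
    Nat.card Hs = 18393661440 ∧
      (∀ u ∈ Hs, u * Fi22.setup.g 0 * u⁻¹ = Fi22.setup.g 0) ∧
      Fi22.setup.g 0 * Fi22.setup.g 0 = 1 ∧ Fi22.setup.g 0 ≠ 1 ∧
      Cfsg.IsNonsplitDoubleCover Hs (Cfsg.PSU 6 FFour 2) := by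
  classical
  obtain ⟨φ, e, hφ, he, he0, hinj, hG⟩ := Fi22.order_and_action
  haveI := Fi22.finite_grp
  have hH : Nat.card Hs = 18393661440 := by
    have h := Subgroup.card_eq_card_quotient_mul_card_subgroup Hs
    rw [hG, Nat.card_congr e, Nat.card_fin, show Fi22H.enum.n = 3510 from rfl] at h
    omega
  have hlen : Fi22H.enum.sW.length = 9 := rfl
  let G' : ℕ → Hs := fun s => if h : s < 9 then ⟨hgen s, Subgroup.subset_closure ⟨s, hlen ▸ h, rfl⟩⟩ else 1
  have hG' : ∀ s, s < 9 → (G' s : Gp) = hgen s := fun s hs => by simp [G', hs]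
  have hq : ∀ s : Fin 9, ∀ i, φ (hgen s) (ι i) = ι (π (genSU s) i) := by
    intro s i
    refine Fin.ext ?_
    show (φ (hgen s) (ι i)).val = ext oTab (π (genSU s) i).val
    rw [π_genSU, ← (res_ok_spec s i).2]
    refine Eq.trans ?_ (hφ _ (fun x hx => word_lt s.val x (List.mem_reverse.mp hx)) (ι i))
    rw [hgen_inv, map_inv, inv_inv]
  have hle : Hs ≤ stab φ ι := by
    refine (Subgroup.closure_le _).mpr ?_
    rintro _ ⟨s, hs, rfl⟩
    exact ⟨π (genSU ⟨s, hlen ▸ hs⟩), hq ⟨s, hlen ▸ hs⟩⟩
  let ψ : Hs →* Equiv.Perm (Fin 693) := (res ι_injective).comp (Subgroup.inclusion hle)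
  have hψ : ∀ s : Fin 9, ψ (G' s.val) = π (genSU s) := fun s => res_eq ι_injective _ fun i => by
    show φ (G' s.val : Gp) (ι i) = _
    rw [hG' s.val s.2, hq]
  have hrange : ψ.range ≤ π.range := by
    have key : ∀ (y : Gp) (hy : y ∈ Hs), ψ ⟨y, hy⟩ ∈ π.range := by
      intro y hy
      induction hy using Subgroup.closure_induction with
      | mem y hy =>
        obtain ⟨s, hs, rfl⟩ := hy
        have hs9 : s < 9 := hlen ▸ hs
        refine ⟨genSU ⟨s, hs9⟩, ?_⟩
        rw [← hψ ⟨s, hs9⟩]
        exact congrArg ψ (Subtype.ext (hG' s hs9))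
      | one => exact ⟨1, by rw [map_one]; exact (map_one ψ).symm⟩
      | mul a b ha hb iha ihb =>
        have h := mul_mem iha ihb
        rw [← map_mul] at h
        exact h
      | inv a ha iha =>
        have h := inv_mem iha
        rw [← map_inv] at h
        exact h
    rintro _ ⟨⟨y, hy⟩, rfl⟩
    exact key y hy
  have himg : ∀ s, s < 9 → IsImg ψ (gT s) := fun s hs => by
    refine ⟨(G' s)⁻¹, fun i => ?_⟩
    rw [map_inv, inv_inv, hψ ⟨s, hs⟩, π_genSU]
  have hge := card_range_ge_order ψ himg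
  have hπ : Nat.card π.range = 9196830720 := by rw [← card_PSU_six]; exact (Nat.card_congr rangeEquiv.toEquiv).symm
  have hcard : Nat.card ψ.range = 9196830720 := by
    have := Nat.le_of_dvd Nat.card_pos (Subgroup.card_dvd_of_le hrange)
    omega
  have heq : ψ.range = π.range := Subgroup.eq_of_le_of_card_ge hrange (by rw [hπ, hcard])
  have hker : Nat.card ψ.ker = 2 := by
    have h := Subgroup.card_eq_card_quotient_mul_card_subgroup ψ.ker
    rw [Nat.card_congr (QuotientGroup.quotientKerEquivRange ψ).toEquiv, hcard, hH] at h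
    omega
  have hsimple : IsSimpleGroup (Cfsg.PSU 6 FFour 2) :=
    CfsgLib.Forms4.isSimpleGroup_PSU (by rw [FFour.card_eq]; norm_num) 6 (by norm_num) (by norm_num)
  let τ : Hs ⧸ ψ.ker ≃* Cfsg.PSU 6 FFour 2 :=
    ((QuotientGroup.quotientKerEquivRange ψ).trans (MulEquiv.subgroupCongr heq)).trans rangeEquiv.symm
  have hg0 : hgen 0 = Fi22.setup.g 0 := by simp [hgen, prodw, Fi22H.enum, Fi22H.sW]
  have ha0 : Fi22.setup.g 0 ≠ 1 := by
    have := prodw_ne_one_of_moves hφ [0] (show ∀ a ∈ [0], a < 9 by decide) 1 (show 1 < 3510 by decide) first_moves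
    simpa [prodw] using this
  have hak : G' 0 ∈ ψ.ker := by
    rw [MonoidHom.mem_ker]
    show ψ (G' ((0 : Fin 9).val)) = 1
    rw [hψ]
    refine Equiv.ext fun i => Fin.ext ?_
    rw [π_genSU]
    have h := allR_spec 10 0 first_trivial i.val (Nat.zero_le _) (by omega)
    rw [show Nat.blt i.val 693 = true by simp] at h
    exact Nat.eq_of_beq_eq_true h
  obtain ⟨w, hw, huniq⟩ := (Nat.card_eq_two_iff' (1 : ψ.ker)).mp hker
  have hne : G' 0 ≠ 1 := fun h => ha0 (by
    rw [← hg0, ← hG' 0 (by norm_num), h]; rfl)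
  have hkcases : ∀ y ∈ ψ.ker, y ≠ 1 → y = G' 0 := fun y hy hy1 =>
    congrArg Subtype.val ((huniq ⟨y, hy⟩ fun h => hy1 (congrArg Subtype.val h)).trans
      (huniq ⟨G' 0, hak⟩ fun h => hne (congrArg Subtype.val h)).symm)
  have hcle : ψ.ker ≤ Subgroup.center Hs := by
    intro y hy
    rw [Subgroup.mem_center_iff]
    intro u
    by_cases hy1 : y = 1
    · simp [hy1]
    · have h2 : u * y * u⁻¹ = G' 0 :=
        hkcases _ ((MonoidHom.normal_ker ψ).conj_mem y hy u) fun h => hy1 (by simpa [mul_inv_eq_one] using h)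
      rw [← hkcases y hy hy1] at h2
      exact mul_inv_eq_iff_eq_mul.mp h2
  have hcen : Subgroup.center Hs = ψ.ker := by
    refine le_antisymm (fun y hy => ?_) hcle
    have h1 : τ (QuotientGroup.mk y) ∈ Subgroup.center (Cfsg.PSU 6 FFour 2) := by
      rw [Subgroup.mem_center_iff]
      intro v
      obtain ⟨u, rfl⟩ := τ.surjective v
      obtain ⟨u, rfl⟩ := QuotientGroup.mk_surjective u
      rw [← map_mul, ← map_mul, ← QuotientGroup.mk_mul, ← QuotientGroup.mk_mul, Subgroup.mem_center_iff.mp hy u]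
    have h2 : Subgroup.center (Cfsg.PSU 6 FFour 2) = ⊥ := by
      refine (hsimple.eq_bot_or_eq_top_of_normal _ inferInstance).resolve_right fun htop => ?_
      letI : CommGroup (Cfsg.PSU 6 FFour 2) := Group.commGroupOfCenterEqTop htop
      have hp : (Nat.card (Cfsg.PSU 6 FFour 2)).Prime := IsSimpleGroup.prime_card
      rw [card_PSU_six] at hp
      exact absurd hp (by norm_num)
    rw [h2, Subgroup.mem_bot, MulEquiv.map_eq_one_iff, QuotientGroup.eq_one_iff] at h1
    exact h1
  refine ⟨hH, fun u hu => ?_, Fi22.setup.of_sq _, ha0, by rw [hcen, hker],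
    ⟨(QuotientGroup.quotientMulEquivOfEq hcen).trans τ⟩, fun L hL => ?_⟩
  · have h := congrArg Subtype.val (Subgroup.mem_center_iff.mp (hcle hak) ⟨u, hu⟩)
    simp only [Subgroup.coe_mul, hG' 0 (by norm_num : (0:ℕ) < 9), hg0] at h
    rw [h, mul_inv_cancel_right]
  -- no subgroup of index two avoids the centre
  have hidx : L.index = 2 := by rw [hL.index_eq_card, hcen, hker]
  have haL : G' 0 ∉ L := fun h => hne (Subgroup.disjoint_def.mp hL.disjoint (hcen ▸ hak) h)
  have hbr : ∀ x y, (x, y) ∈ adjacent → x < 9 → y < 9 → (G' x ∈ L ↔ G' y ∈ L) := by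
    intro x y h hx hy
    refine mem_iff_of_braid hidx (Subtype.ext ?_)
    simp only [Subgroup.coe_mul, hG' x hx, hG' y hy]
    have h1 := braid_eq hinj hφ x y h
    exact h1
  have e1 := hbr 1 2 (by decide) (by norm_num) (by norm_num)
  have e2 := hbr 2 3 (by decide) (by norm_num) (by norm_num)
  have e3 := hbr 3 4 (by decide) (by norm_num) (by norm_num)
  have e5 := hbr 2 6 (by decide) (by norm_num) (by norm_num)
  have e6 := hbr 6 7 (by decide) (by norm_num) (by norm_num)
  have e7 := hbr 8 4 (by decide) (by norm_num) (by norm_num)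
  have hall : ∀ x ∈ aWord, (G' x ∈ L ↔ G' 1 ∈ L) := by
    intro x hx
    have hx' : x ∈ ([3, 7, 2, 6, 8, 1] : List ℕ) := by
      obtain ⟨l, hl, hxl⟩ := List.mem_flatten.mp hx
      rwa [List.eq_of_mem_replicate hl] at hxl
    simp only [List.mem_cons, List.not_mem_nil, or_false] at hx'
    rcases hx' with rfl | rfl | rfl | rfl | rfl | rfl <;> tauto
  have hlt : ∀ x ∈ aWord, x < 9 := by decide
  have hprod : (aWord.map G').prod = G' 0 := by
    refine Subtype.ext ?_
    rw [SubmonoidClass.coe_list_prod, List.map_map, hG' 0 (by norm_num),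
      List.map_congr_left (f := Subtype.val ∘ G') (g := hgen) fun x hx => hG' x (hlt x hx),
      aWord_eq hinj hφ]
  refine haL (hprod ▸ ?_)
  by_cases h1 : G' 1 ∈ L
  · refine L.list_prod_mem ?_
    intro u hu
    obtain ⟨x, hx, rfl⟩ := List.mem_map.mp hu
    exact (hall x hx).mpr h1
  · rw [prod_mem_iff_even hidx _ (by
      intro u hu
      obtain ⟨x, hx, rfl⟩ := List.mem_map.mp hu
      exact fun h => h1 ((hall x hx).mp h)), List.length_map]
    decide

end CfsgLib.CosetEnum.Fi22U
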