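import Cfsg.Agent.CosetEnum.Fi22U.Iso
import Cfsg.Agent.CosetEnum.Fi22Simple.Final

set_option autoImplicit false
set_option maxRecDepth 100000
set_option exponentiation.threshold 200000

/-! The class of 3510 three-transpositions of the presented Fischer group Fi22. -/

namespace CfsgLib.CosetEnum.Fi22U

open CfsgLib.SporB

theorem walkOne : Nat.beq (walk Fi22H.enum.tb [1] 0) 1 = true := by decide +kernel

theorem walkSix : Nat.beq (walk Fi22H.enum.tb [1, 0, 2, 1] 0) 6 = true := by decide +kernel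

theorem pairOne : allR (sameWord 3510 Fi22H.enum.tb [0, 1, 0, 1, 0, 1, 0, 1, 0, 1, 0, 1] []) 12 0 = true := by
  decide +kernel

theorem pairSix : allR (sameWord 3510 Fi22H.enum.tb
    [0, 1, 2, 0, 1, 0, 1, 0, 2, 1, 0, 1, 2, 0, 1, 0, 1, 0, 2, 1] []) 12 0 = true := by
  decide +kernel

/-- A class of 3510 transpositions whose centralisers are double covers of PSU(6, 2). -/
theorem exists_class :
    ∃ D : Set Fi22.setup.Grp, Cfsg.IsThreeTranspositionClass D ∧ Nat.card D = 3510 ∧
      ∀ d ∈ D, Cfsg.IsNonsplitDoubleCover (Subgroup.centralizer ({d} : Set Fi22.setup.Grp)) (Cfsg.PSU 6 FFour 2) := by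
  haveI := Fi22.finite_grp
  obtain ⟨φ, e, hφ, he, he0, hinj, hG⟩ := Fi22.order_and_action
  obtain ⟨-, hcomm, hzz, hz1, hcover⟩ := stabiliser_facts
  set z : Fi22.setup.Grp := Fi22.setup.g 0 with hz
  haveI : _root_.Fact (Nat.Prime 2) := ⟨Nat.prime_two⟩
  have hzo : orderOf z = 2 := orderOf_eq_prime (by rw [pow_two, hzz]) hz1
  have hle : Fi22H.enum.H ≤ Subgroup.centralizer ({z} : Set Fi22.setup.Grp) := fun u hu => by
    rw [Subgroup.mem_centralizer_singleton_iff]
    exact mul_inv_eq_iff_eq_mul.mp (hcomm u hu)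
  have hC : Subgroup.centralizer ({z} : Set Fi22.setup.Grp) = Fi22H.enum.H := by
    refine (Fi22H.maximal φ e hφ he he0 hle).resolve_right fun htop => hz1 ?_
    have hnorm : (Subgroup.zpowers z).Normal := ⟨fun y hy g => by
      have hg : g ∈ Subgroup.centralizer ({z} : Set Fi22.setup.Grp) := htop.symm ▸ Subgroup.mem_top g
      rw [Subgroup.mem_centralizer_singleton_iff] at hg
      obtain ⟨m, rfl⟩ := Subgroup.mem_zpowers_iff.mp hy
      rw [(show Commute g z from hg).zpow_right m |>.eq, mul_inv_cancel_right]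
      exact hy⟩
    by_contra hne
    have h := @dvd_card_normal _ _ _ φ _ _ _ e he hinj (fun K hK => Fi22H.maximal φ e hφ he he0 hK)
      _ hnorm (by rwa [Ne, Subgroup.zpowers_eq_bot])
    rw [Nat.card_zpowers, hzo] at h
    exact absurd (Nat.le_of_dvd two_pos h) (show ¬ 3510 ≤ 2 by norm_num)
  have hrev : ∀ u : List ℕ, (∀ x ∈ u, x < 9) → prodw Fi22.setup.g u.reverse = (prodw Fi22.setup.g u)⁻¹ := by
    intro u hu
    simp only [prodw, List.map_reverse, List.prod_inv_reverse, List.map_map]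
    congr 2
    refine List.map_congr_left fun x hx => ?_
    exact Fi22.setup.hiv x (hu x hx) (hu x hx)
  have happ : ∀ u v : List ℕ, prodw Fi22.setup.g (u ++ v) = prodw Fi22.setup.g u * prodw Fi22.setup.g v :=
    fun u v => by simp [prodw]
  have hpair : ∀ (u : List ℕ) (p : ℕ), (∀ x ∈ u, x < 9) →
      allR (sameWord 3510 Fi22H.enum.tb (List.replicate p ([0] ++ u.reverse ++ [0] ++ u)).flatten []) 12 0 = true →
      (z * ((prodw Fi22.setup.g u)⁻¹ * z * prodw Fi22.setup.g u)) ^ p = 1 := by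
    intro u p hu hok
    have hlt : ∀ x ∈ (List.replicate p ([0] ++ u.reverse ++ [0] ++ u)).flatten, x < Fi22.setup.k := by
      intro x hx
      obtain ⟨l, hl, hxl⟩ := List.mem_flatten.mp hx
      rw [List.eq_of_mem_replicate hl] at hxl
      show x < 9
      simp only [List.mem_append, List.mem_singleton, List.mem_reverse] at hxl
      rcases hxl with ((rfl | h) | rfl) | h
      · norm_num
      · exact hu x h
      · norm_num
      · exact hu x h
    have h1 := prodw_eq_of_sameWord hinj hφ _ _ hlt (fun x hx => absurd hx List.not_mem_nil)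
      (show 3510 ≤ 2 ^ 12 by decide) hok
    rw [prodw_replicate, prodw_nil, happ, happ, happ, hrev u hu] at h1
    simpa [prodw, hz, mul_assoc] using h1
  refine ⟨conjugatesOf z, ⟨⟨?_, ?_⟩, ⟨z, mem_conjugatesOf_self, rfl⟩, ?_⟩, ?_, ?_⟩
  · intro d hd
    obtain ⟨c, rfl⟩ := isConj_iff.mp (hd : IsConj z _)
    rw [show c * z * c⁻¹ = MulAut.conj c z from rfl]
    exact ((MulAut.conj c).orderOf_eq z).trans hzo
  · intro d hd d' hd'
    obtain ⟨a, rfl⟩ := isConj_iff.mp (hd : IsConj z _)
    obtain ⟨b, rfl⟩ := isConj_iff.mp (hd' : IsConj z _)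
    have hmain : (z * ((a⁻¹ * b) * z * (a⁻¹ * b)⁻¹)) ^ 2 = 1 ∨
        (z * ((a⁻¹ * b) * z * (a⁻¹ * b)⁻¹)) ^ 3 = 1 := by
      generalize a⁻¹ * b = c
      have h0 : ∀ y : Fi22.setup.Grp, e (y : Fi22.setup.Grp ⧸ Fi22H.enum.H) = φ y (e ((1 : Fi22.setup.Grp) : Fi22.setup.Grp ⧸ Fi22H.enum.H)) := fun y => by
        rw [← he, MulAction.Quotient.smul_coe, smul_eq_mul, mul_one]
      rw [he0] at h0
      have hrep : ∀ (r : ℕ) (hr : r < Fi22H.enum.n) (u : List ℕ) (p : ℕ), (∀ x ∈ u, x < 9) →
          Nat.beq (walk Fi22H.enum.tb u 0) r = true →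
          (z * ((prodw Fi22.setup.g u)⁻¹ * z * prodw Fi22.setup.g u)) ^ p = 1 →
          ∀ R : ℕ, (∀ j, bit R j = true → ∃ h ∈ Fi22H.enum.H, ((φ h)⁻¹ ⟨r, hr⟩).val = j) →
          bit R (φ c 0).val = true → (z * (c * z * c⁻¹)) ^ p = 1 := by
        intro r hr u p hu hwalk hp R hR hbit
        obtain ⟨h, hh, hval⟩ := hR _ hbit
        set y := (prodw Fi22.setup.g u)⁻¹ with hy'
        have hy : (⟨r, hr⟩ : Fin Fi22H.enum.n) = φ y 0 := by
          refine Fin.ext ?_
          rw [hy', map_inv, hφ u (fun x hx => hu x hx) 0]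
          exact (Nat.eq_of_beq_eq_true hwalk).symm
        have h1 : (c : Fi22.setup.Grp ⧸ Fi22H.enum.H) = ((h⁻¹ * y : Fi22.setup.Grp) : Fi22.setup.Grp ⧸ Fi22H.enum.H) :=
          e.injective (by
            rw [h0, h0, map_mul, Equiv.Perm.mul_apply, ← hy, map_inv]
            exact Fin.ext hval.symm)
        obtain ⟨k, hk, hck⟩ : ∃ k ∈ Fi22H.enum.H, c = h⁻¹ * y * k :=
          ⟨(h⁻¹ * y)⁻¹ * c, QuotientGroup.eq.mp h1.symm, by group⟩
        have h2 : z * (c * z * c⁻¹) = h⁻¹ * (z * (y * z * y⁻¹)) * h⁻¹⁻¹ := by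
          rw [hck, show h⁻¹ * y * k * z * (h⁻¹ * y * k)⁻¹ = h⁻¹ * y * (k * z * k⁻¹) * (h⁻¹ * y)⁻¹ by group,
            hcomm k hk]
          conv_lhs => arg 1; rw [← hcomm h⁻¹ (inv_mem hh)]
          group
        rw [h2, conj_pow, show y⁻¹ = prodw Fi22.setup.g u by rw [hy', inv_inv], hy', hp]
        group
      have key : ∀ (i0 : Fin Fi22H.enum.n) (R dR steps : ℕ),
          reach Fi22H.enum.tb (fun s => Fi22H.enum.sW.getD s []) dR steps i0.val = R →
          ∀ j, bit R j = true → ∃ h ∈ Fi22H.enum.H, ((φ h)⁻¹ i0).val = j := fun i0 R dR steps hR =>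
        reach_mem (H := Fi22H.enum.H) (fun s => Fi22H.enum.sW.getD s []) Fi22H.enum.sW.length
          (fun s => prodw Fi22.setup.g (Fi22H.enum.sW.getD s []))
          (fun s hs => Subgroup.subset_closure ⟨s, hs, rfl⟩)
          (fun s hs i => hφ _ (Fi22H.enum.sW_lt _ (by
            rw [List.getD_eq_getElem _ _ hs]; exact List.getElem_mem hs)) i)
          (fun s hs => List.getD_eq_default _ _ hs) i0 hR
      have hmem : memberOf Fi22H.suborbits (2 ^ Fi22H.suborbits.length - 1) (φ c 0).val = true := by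
        have hlt : (φ c 0).val < 3510 := (φ c 0).2
        have h1 := allR_spec 12 0 Fi22H.cover (φ c 0).val (Nat.zero_le _) (by omega)
        rw [show Nat.blt (φ c 0).val 3510 = true by simpa using hlt] at h1
        exact h1
      rcases (memberOf_iff _ _ _).mp hmem with h | ⟨o, ho, -, hbit⟩
      · left
        have hc0 : c ∈ Fi22H.enum.H := by
          have h1 : (c : Fi22.setup.Grp ⧸ Fi22H.enum.H) = ((1 : Fi22.setup.Grp) : Fi22.setup.Grp ⧸ Fi22H.enum.H) :=
            e.injective (by rw [h0, he0]; exact Fin.ext h)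
          simpa using QuotientGroup.eq.mp h1.symm
        rw [hcomm c hc0, pow_two, hzz, one_mul]
      · have ho' : o < 2 := ho
        interval_cases o
        · right
          exact hrep 1 (show 1 < 3510 by decide) [1] 3 (by decide) walkOne (hpair [1] 3 (by decide) pairOne)
            Fi22H.R0 (key _ _ 12 Fi22H.O0 Fi22H.reach0) hbit
        · left
          exact hrep 6 (show 6 < 3510 by decide) [1, 0, 2, 1] 2 (by decide) walkSix
            (hpair [1, 0, 2, 1] 2 (by decide) pairSix) Fi22H.R1 (key _ _ 10 Fi22H.O1 Fi22H.reach1) hbit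
    have hconv : a * z * a⁻¹ * (b * z * b⁻¹) = a * (z * ((a⁻¹ * b) * z * (a⁻¹ * b)⁻¹)) * a⁻¹ := by
      group
    rw [hconv, conj_pow, conj_pow]
    rcases hmain with h | h
    · left; rw [h, mul_one, mul_inv_cancel]
    · right; rw [h, mul_one, mul_inv_cancel]
  · haveI : IsSimpleGroup Fi22.setup.Grp := Fi22.isSimpleGroup_Fi22
    have h1 : Subgroup.closure (conjugatesOf z) = Subgroup.normalClosure ({z} : Set Fi22.setup.Grp) := by
      rw [Subgroup.normalClosure, Group.conjugatesOfSet]
      simp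
    refine h1.trans ?_
    refine (IsSimpleGroup.eq_bot_or_eq_top_of_normal _ Subgroup.normalClosure_normal).resolve_left fun h => hz1 ?_
    have := Subgroup.subset_normalClosure (Set.mem_singleton z)
    rw [h] at this
    exact Subgroup.mem_bot.mp this
  · rw [show conjugatesOf z = MulAction.orbit (ConjAct Fi22.setup.Grp) z from by
      ext y; rw [ConjAct.mem_orbit_conjAct]; exact isConj_comm]
    rw [Nat.card_coe_set_eq, ← MulAction.index_stabilizer, ConjAct.stabilizer_eq_centralizer]
    show (Subgroup.centralizer ({z} : Set Fi22.setup.Grp)).index = 3510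
    rw [hC]
    exact Fi22H.enum.index_H e
  · intro d hd
    obtain ⟨c, rfl⟩ := isConj_iff.mp (hd : IsConj z _)
    obtain ⟨h1, ⟨h2⟩, h3⟩ := hC.symm ▸ hcover
    let σ : Subgroup.centralizer ({z} : Set Fi22.setup.Grp) ≃* Subgroup.centralizer ({c * z * c⁻¹} : Set Fi22.setup.Grp) :=
      ((MulAut.conj c).subgroupMap _).trans (MulEquiv.subgroupCongr (by
        ext y
        simp only [Subgroup.mem_map, MulEquiv.coe_toMonoidHom, Subgroup.mem_centralizer_singleton_iff]
        constructor
        · rintro ⟨x, hx, rfl⟩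
          show c * x * c⁻¹ * (c * z * c⁻¹) = c * z * c⁻¹ * (c * x * c⁻¹)
          rw [show c * x * c⁻¹ * (c * z * c⁻¹) = c * (x * z) * c⁻¹ by group, hx]
          group
        · intro hy
          refine ⟨c⁻¹ * y * c, ?_, by simp [mul_assoc]⟩
          calc c⁻¹ * y * c * z = c⁻¹ * (y * (c * z * c⁻¹)) * c := by group
            _ = z * (c⁻¹ * y * c) := by rw [hy]; group))
    have hcen : (Subgroup.center (Subgroup.centralizer ({z} : Set Fi22.setup.Grp))).map σ.toMonoidHom =
        Subgroup.center (Subgroup.centralizer ({c * z * c⁻¹} : Set Fi22.setup.Grp)) := by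
      ext y
      simp only [Subgroup.mem_map, MulEquiv.coe_toMonoidHom, Subgroup.mem_center_iff]
      constructor
      · rintro ⟨x, hx, rfl⟩ u
        obtain ⟨u, rfl⟩ := σ.surjective u
        rw [← map_mul, ← map_mul, hx]
      · intro hy
        refine ⟨σ.symm y, fun u => σ.injective ?_, σ.apply_symm_apply y⟩
        rw [map_mul, map_mul, σ.apply_symm_apply, hy]
    refine ⟨?_, ⟨(QuotientGroup.congr _ _ σ hcen).symm.trans h2⟩, fun L hL => h3 (L.comap σ.toMonoidHom) ?_⟩
    · rw [← hcen, Subgroup.card_map_of_injective (f := σ.toMonoidHom) σ.injective, h1]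
    · refine Subgroup.isComplement'_of_card_mul_and_disjoint ?_ ?_
      · have hc1 := Subgroup.card_map_of_injective (f := σ.toMonoidHom)
          (K := Subgroup.center (Subgroup.centralizer {z})) σ.injective
        have hc2 : Nat.card (L.comap σ.toMonoidHom) = Nat.card L :=
          Nat.card_congr (σ.toEquiv.subtypeEquiv fun _ => Iff.rfl)
        rw [← hc1, hcen, hc2, hL.card_mul]
        exact (Nat.card_congr σ.toEquiv).symm
      · rw [Subgroup.disjoint_def]
        intro x hx hxL
        refine σ.injective ((Subgroup.disjoint_def.mp hL.disjoint (hcen ▸ ⟨x, hx, rfl⟩) hxL).trans (map_one σ).symm)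

end CfsgLib.CosetEnum.Fi22U
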